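import Mathlib
import Cfsg.Agent.Lib.Classical.HermFrames
import Cfsg.Agent.Lib.Classical.HermOrder

/-!
# Subspaces and isometries of the standard hermitian space
-/

set_option autoImplicit false
set_option linter.all false

namespace CfsgLib.Perm.Elusive.HermIso

open Matrix CfsgLib.SU CfsgLib.Classical CfsgLib.Classical.HermFrames

variable {F : Type*} [Field F] {q : ℕ} (C : UCtx F q) {n : ℕ}

/-- vectors orthogonal to a subspace -/
def perp (W : Submodule F (Fin n → F)) : Submodule F (Fin n → F) where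
  carrier := {x | ∀ w ∈ W, C.form x w = 0}
  add_mem' {a b} ha hb w hw := by rw [C.form_add_left, ha w hw, hb w hw, add_zero]
  zero_mem' w _ := C.form_zero_left w
  smul_mem' c u hu w hw := by rw [C.form_smul_left, hu w hw, mul_zero]

/-- subspaces without radical -/
def Nd (W : Submodule F (Fin n → F)) : Prop := ∀ u ∈ W, (∀ v ∈ W, C.form u v = 0) → u = 0

/-- totally isotropic subspaces -/
def Sing (W : Submodule F (Fin n → F)) : Prop := ∀ u ∈ W, ∀ v ∈ W, C.form u v = 0

/-- isometries -/
def Iso (T : Module.End F (Fin n → F)) : Prop := ∀ u v, C.form (T u) (T v) = C.form u v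

/-- invariance -/
def Inv (T : Module.End F (Fin n → F)) (W : Submodule F (Fin n → F)) : Prop := ∀ u ∈ W, T u ∈ W

variable {C}

theorem mem_perp {W : Submodule F (Fin n → F)} {x : Fin n → F} : x ∈ perp C W ↔ ∀ w ∈ W, C.form x w = 0 := Iff.rfl

theorem perp_swap {W : Submodule F (Fin n → F)} {x w : Fin n → F} (hx : x ∈ perp C W) (hw : w ∈ W) :
    C.form w x = 0 := C.form_swap_zero (hx w hw)

theorem nd_iff (W : Submodule F (Fin n → F)) :
    Nd C W ↔ ∀ u ∈ W, u ≠ 0 → ∃ v ∈ W, C.form u v ≠ 0 := by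
  constructor
  · intro h u hu hu0
    by_contra hcon
    push Not at hcon
    exact hu0 (h u hu hcon)
  · intro h u hu hz
    by_contra hu0
    obtain ⟨v, hv, hne⟩ := h u hu hu0
    exact hne (hz v hv)

theorem nd_disjoint {W : Submodule F (Fin n → F)} : Nd C W ↔ Disjoint W (perp C W) := by
  rw [Submodule.disjoint_def]
  rfl

theorem nd_bot : Nd C (⊥ : Submodule F (Fin n → F)) := fun u hu _ => (Submodule.mem_bot F).1 hu

theorem nd_top : Nd C (⊤ : Submodule F (Fin n → F)) := fun u _ h => C.eq_zero_of_form fun v => h v Submodule.mem_top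

theorem sing_bot : Sing C (⊥ : Submodule F (Fin n → F)) := fun u hu v _ => by
  rw [(Submodule.mem_bot F).1 hu, C.form_zero_left]

theorem form_neg_sum {ι : Type*} (s : Finset ι) (v : Fin n → F) (u : ι → Fin n → F) :
    C.form v (∑ a ∈ s, u a) = ∑ a ∈ s, C.form v (u a) := by
  rw [← C.bar_form, C.form_sum_left, map_sum]
  exact Finset.sum_congr rfl fun a _ => C.bar_form _ _

theorem finrank_perp (W : Submodule F (Fin n → F)) :
    Module.finrank F (perp C W) + Module.finrank F W = n := by
  classical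
  obtain ⟨b, hb⟩ : ∃ b, b = Module.finBasis F W := ⟨_, rfl⟩
  obtain ⟨Φ, hΦ⟩ : ∃ Φ : (Fin n → F) →ₗ[F] (Fin (Module.finrank F W) → F),
      ∀ x i, Φ x i = C.form x (b i : Fin n → F) :=
    ⟨{ toFun := fun x i => C.form x (b i : Fin n → F)
       map_add' := fun u v => funext fun i => C.form_add_left _ _ _
       map_smul' := fun c u => funext fun i => C.form_smul_left _ _ _ }, fun x i => rfl⟩
  have hker : LinearMap.ker Φ = perp C W := by
    ext x
    rw [LinearMap.mem_ker]
    constructor
    · intro h w hw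
      obtain ⟨w', rfl⟩ : ∃ w' : W, (w' : Fin n → F) = w := ⟨⟨w, hw⟩, rfl⟩
      rw [← b.sum_repr w']
      simp only [Submodule.coe_sum, Submodule.coe_smul, form_neg_sum, C.form_smul_right, ← hΦ, h]
      simp
    · exact fun h => funext fun i => (hΦ x i).trans (h _ (b i).2)
  have hsurj : LinearMap.range Φ = ⊤ := by
    by_contra hne
    obtain ⟨f, hf, hf0⟩ := Submodule.exists_le_ker_of_lt_top _ (lt_top_iff_ne_top.2 hne)
    have hfe : ∀ y, f y = ∑ i, y i * f (Pi.single i 1) := fun y => by
      conv_lhs => rw [← Finset.univ_sum_single y]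
      rw [map_sum]
      refine Finset.sum_congr rfl fun i _ => ?_
      rw [show Pi.single i (y i) = y i • (Pi.single i (1 : F) : Fin (Module.finrank F W) → F) by
        rw [← Pi.single_smul, smul_eq_mul, mul_one], map_smul, smul_eq_mul]
    have hz : ∑ i, C.bar (f (Pi.single i 1)) • (b i : Fin n → F) = 0 := by
      refine C.eq_zero_of_form' fun x => ?_
      have h0 : f (Φ x) = 0 := LinearMap.mem_ker.1 (hf0 ⟨x, rfl⟩)
      rw [hfe] at h0
      rw [form_neg_sum, ← h0]
      exact Finset.sum_congr rfl fun i _ => by rw [C.form_smul_right, C.bar_bar, hΦ, mul_comm]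
    have hli : LinearIndependent F fun i => (b i : Fin n → F) :=
      b.linearIndependent.map' W.subtype (Submodule.ker_subtype _)
    have hcoef := Fintype.linearIndependent_iff.1 hli _ hz
    refine hf (LinearMap.ext fun y => ?_)
    rw [hfe, LinearMap.zero_apply]
    refine Finset.sum_eq_zero fun i _ => ?_
    have := hcoef i
    rw [map_eq_zero] at this
    rw [this, mul_zero]
  have h := Φ.finrank_range_add_finrank_ker
  rw [hsurj, hker, finrank_top, Module.finrank_fin_fun, Module.finrank_fin_fun] at h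
  omega

theorem isCompl_perp {W : Submodule F (Fin n → F)} (hW : Nd C W) : IsCompl W (perp C W) := by
  refine ⟨nd_disjoint.1 hW, codisjoint_iff.2 (Submodule.eq_top_of_finrank_eq ?_)⟩
  have h := Submodule.finrank_sup_add_finrank_inf_eq W (perp C W)
  rw [(nd_disjoint.1 hW).eq_bot, finrank_bot, add_zero] at h
  rw [h, add_comm, finrank_perp, Module.finrank_fin_fun]

theorem perp_perp (W : Submodule F (Fin n → F)) : perp C (perp C W) = W := by
  have hle : W ≤ perp C (perp C W) := fun u hu x hx => perp_swap hx hu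
  refine (Submodule.eq_of_le_of_finrank_eq hle ?_).symm
  have h1 := finrank_perp (C := C) W
  have h2 := finrank_perp (C := C) (perp C W)
  omega

theorem nd_perp {W : Submodule F (Fin n → F)} (hW : Nd C W) : Nd C (perp C W) := by
  rw [nd_disjoint, perp_perp]
  exact (nd_disjoint.1 hW).symm

theorem nd_sup {W W' : Submodule F (Fin n → F)} (hW : Nd C W) (hW' : Nd C W') (ho : W' ≤ perp C W) :
    Nd C (W ⊔ W') := by
  intro x hx hxo
  obtain ⟨w, hw, w', hw', rfl⟩ := Submodule.mem_sup.1 hx
  have h1 : w = 0 := hW w hw fun u hu => by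
    have h := hxo u (Submodule.mem_sup_left hu)
    rwa [C.form_add_left, ho hw' u hu, add_zero] at h
  have h2 : w' = 0 := hW' w' hw' fun u hu => by
    have h := hxo u (Submodule.mem_sup_right hu)
    rwa [h1, C.form_add_left, C.form_zero_left, zero_add] at h
  rw [h1, h2, add_zero]

theorem finrank_sup_perp {W W' : Submodule F (Fin n → F)} (hW : Nd C W) (ho : W' ≤ perp C W) :
    Module.finrank F (W ⊔ W' : Submodule F (Fin n → F)) = Module.finrank F W + Module.finrank F W' := by
  have h := Submodule.finrank_sup_add_finrank_inf_eq W W'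
  rwa [((nd_disjoint.1 hW).mono_right ho).eq_bot, finrank_bot, add_zero] at h

theorem sing_sup {W W' : Submodule F (Fin n → F)} (hW : Sing C W) (hW' : Sing C W') (ho : W' ≤ perp C W) :
    Sing C (W ⊔ W') := by
  intro u hu v hv
  obtain ⟨a, ha, b, hb, rfl⟩ := Submodule.mem_sup.1 hu
  obtain ⟨a', ha', b', hb', rfl⟩ := Submodule.mem_sup.1 hv
  simp only [C.form_add_left, C.form_add_right, hW a ha a' ha', hW' b hb b' hb', ho hb a' ha', perp_swap (ho hb') ha,
    add_zero]

theorem sing_two_mul_le {W : Submodule F (Fin n → F)} (hW : Sing C W) : 2 * Module.finrank F W ≤ n := by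
  have h := Submodule.finrank_mono (show W ≤ perp C W from fun u hu v hv => hW u hu v hv)
  have := finrank_perp (C := C) W
  omega

theorem sing_in_nd {W S : Submodule F (Fin n → F)} (hS : Nd C S) (hWS : W ≤ S) (hW : Sing C W) :
    2 * Module.finrank F W ≤ Module.finrank F S := by
  have hle : W ⊔ perp C S ≤ perp C W := sup_le (fun u hu v hv => hW u hu v hv) (fun u hu v hv => hu v (hWS hv))
  have h1 := Submodule.finrank_mono hle
  have h2 := Submodule.finrank_sup_add_finrank_inf_eq W (perp C S)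
  rw [((nd_disjoint.1 hS).mono_left hWS).eq_bot, finrank_bot, add_zero] at h2
  have := finrank_perp (C := C) W
  have := finrank_perp (C := C) S
  omega

theorem Iso.injective {T : Module.End F (Fin n → F)} (hI : Iso C T) : Function.Injective T := fun u v h =>
  sub_eq_zero.1 (C.eq_zero_of_form fun w => by rw [← hI, map_sub, h, sub_self, C.form_zero_left])

theorem Iso.pow {T : Module.End F (Fin n → F)} (hI : Iso C T) : ∀ j : ℕ, Iso C (T ^ j)
  | 0 => fun u v => by simp
  | j + 1 => fun u v => by rw [pow_succ', Module.End.mul_apply, Module.End.mul_apply, hI, (Iso.pow hI j)]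

theorem Iso.surj_on {T : Module.End F (Fin n → F)} (hI : Iso C T) {W : Submodule F (Fin n → F)} (hW : Inv T W) :
    W.map T = W :=
  Submodule.eq_of_le_of_finrank_eq (by rintro _ ⟨u, hu, rfl⟩; exact hW u hu)
    (Submodule.equivMapOfInjective T hI.injective W).finrank_eq.symm

theorem Iso.perp_inv {T : Module.End F (Fin n → F)} (hI : Iso C T) {W : Submodule F (Fin n → F)} (hW : Inv T W) :
    Inv T (perp C W) := by
  intro u hu w hw
  rw [← hI.surj_on hW] at hw
  obtain ⟨w', hw', rfl⟩ := hw
  rw [hI]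
  exact hu w' hw'

theorem inv_inf {T : Module.End F (Fin n → F)} {W W' : Submodule F (Fin n → F)} (hW : Inv T W) (hW' : Inv T W') :
    Inv T (W ⊓ W') := fun u hu => ⟨hW u hu.1, hW' u hu.2⟩

theorem inv_sup {T : Module.End F (Fin n → F)} {W W' : Submodule F (Fin n → F)} (hW : Inv T W) (hW' : Inv T W') :
    Inv T (W ⊔ W') := fun u hu => by
  obtain ⟨a, ha, b, hb, rfl⟩ := Submodule.mem_sup.1 hu
  rw [map_add]
  exact Submodule.add_mem_sup (hW a ha) (hW' b hb)

theorem inv_bot (T : Module.End F (Fin n → F)) : Inv T ⊥ := fun u hu => by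
  rw [(Submodule.mem_bot F).1 hu, map_zero]; exact zero_mem _

theorem inv_top (T : Module.End F (Fin n → F)) : Inv T ⊤ := fun u _ => Submodule.mem_top

/-- orthogonal chains of blocks of a fixed dimension -/
theorem block_chain {T : Module.End F (Fin n → F)} (hI : Iso C T) {c : ℕ} (hc : 0 < c) {S₀ : Submodule F (Fin n → F)}
    (step : ∀ S ≤ S₀, Inv T S → Nd C S → S ≠ ⊥ → ∃ W ≤ S, Inv T W ∧ Nd C W ∧ Module.finrank F W = c)
    {S : Submodule F (Fin n → F)} (hS₀ : S ≤ S₀) (hS : Inv T S) (hnd : Nd C S) :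
    ∃ k, Module.finrank F S = k * c ∧ ∀ j ≤ k, ∃ W ≤ S, Inv T W ∧ Nd C W ∧ Module.finrank F W = j * c := by
  induction hn : Module.finrank F S using Nat.strong_induction_on generalizing S with
  | _ N ih =>
    subst hn
    by_cases hS0 : S = ⊥
    · subst hS0
      exact ⟨0, by simp, fun j hj => ⟨⊥, le_rfl, inv_bot T, nd_bot, by rw [finrank_bot, Nat.le_zero.1 hj, zero_mul]⟩⟩
    obtain ⟨W, hWS, hW, hWnd, hWc⟩ := step S hS₀ hS hnd hS0
    obtain ⟨S', hS'⟩ : ∃ S', S' = S ⊓ perp C W := ⟨_, rfl⟩
    have hsup : W ⊔ S' = S := by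
      rw [hS', inf_comm, ← sup_inf_assoc_of_le _ hWS, (isCompl_perp hWnd).sup_eq_top, top_inf_eq]
    have hS'o : S' ≤ perp C W := hS' ▸ inf_le_right
    have hS'S : S' ≤ S := hS' ▸ inf_le_left
    have hfr : Module.finrank F S = c + Module.finrank F S' := by rw [← hsup, finrank_sup_perp hWnd hS'o, hWc]
    have hS'nd : Nd C S' := by
      intro x hx hxo
      refine hnd x (hS'S hx) ?_
      rw [← hsup]
      intro u hu
      obtain ⟨w, hw, s, hs, rfl⟩ := Submodule.mem_sup.1 hu
      rw [C.form_add_right, hS'o hx w hw, hxo s hs, add_zero]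
    have hS'inv : Inv T S' := hS' ▸ inv_inf hS (hI.perp_inv hW)
    obtain ⟨k, hk, hex⟩ := ih _ (by omega) (hS'S.trans hS₀) hS'inv hS'nd rfl
    refine ⟨k + 1, by rw [hfr, hk]; ring, fun j hj => ?_⟩
    rcases j with _ | j
    · exact ⟨⊥, bot_le, inv_bot T, nd_bot, by rw [finrank_bot, zero_mul]⟩
    obtain ⟨W', hW'S, hW', hW'nd, hW'f⟩ := hex j (by omega)
    refine ⟨W ⊔ W', sup_le hWS (hW'S.trans hS'S), inv_sup hW hW', nd_sup hWnd hW'nd (hW'S.trans hS'o), ?_⟩
    rw [finrank_sup_perp hWnd (hW'S.trans hS'o), hWc, hW'f]; ring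

/-- building isotropic invariant subspaces step by step -/
theorem sing_chain {T : Module.End F (Fin n → F)} (hI : Iso C T)
    (hss : ∀ W : Submodule F (Fin n → F), Inv T W → ∃ Q : Submodule F (Fin n → F), Inv T Q ∧ IsCompl W Q)
    {S : Submodule F (Fin n → F)} (hS : Inv T S) {w₀ c₀ : ℕ}
    (step : ∀ D ≤ S, Inv T D → c₀ < Module.finrank F D →
      ∃ W ≤ D, Inv T W ∧ Sing C W ∧ Module.finrank F W = w₀) :
    ∀ j, (j = 0 ∨ 2 * w₀ * (j - 1) + c₀ < Module.finrank F S) →
      ∃ W ≤ S, Inv T W ∧ Sing C W ∧ Module.finrank F W = j * w₀ := by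
  intro j
  induction j with
  | zero => exact fun _ => ⟨⊥, bot_le, inv_bot T, sing_bot, by simp⟩
  | succ j ih =>
    intro hj
    replace hj := hj.resolve_left (Nat.succ_ne_zero j)
    rw [Nat.add_sub_cancel] at hj
    obtain ⟨W, hWS, hW, hWiso, hWd⟩ := ih (by
      rcases j with _ | j
      · exact Or.inl rfl
      · refine Or.inr (lt_of_le_of_lt ?_ hj)
        gcongr
        omega)
    obtain ⟨Q, hQ, hc⟩ := hss W hW
    obtain ⟨D₀, hD₀⟩ : ∃ D₀, D₀ = perp C W ⊓ S := ⟨_, rfl⟩
    have hdim₀ : Module.finrank F S ≤ Module.finrank F D₀ + j * w₀ := by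
      have h1 := Submodule.finrank_sup_add_finrank_inf_eq (perp C W) S
      have h2 := Submodule.finrank_le (perp C W ⊔ S)
      have h3 := finrank_perp (C := C) W
      rw [Module.finrank_fin_fun] at h2
      rw [← hD₀] at h1
      rw [hWd] at h3
      omega
    have hdim : Module.finrank F D₀ ≤ Module.finrank F (D₀ ⊓ Q : Submodule F (Fin n → F)) + j * w₀ := by
      have h1 := Submodule.finrank_sup_add_finrank_inf_eq D₀ Q
      have h2 := Submodule.finrank_le (D₀ ⊔ Q)
      have h3 := Submodule.finrank_add_eq_of_isCompl hc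
      rw [hWd] at h3
      omega
    obtain ⟨W₀, hW₀D, hW₀, hW₀iso, hW₀d⟩ := step (D₀ ⊓ Q) (le_trans inf_le_left (hD₀ ▸ inf_le_right))
      (hD₀ ▸ inv_inf (inv_inf (hI.perp_inv hW) hS) hQ) (by
        have : 2 * w₀ * j = j * w₀ + j * w₀ := by ring
        omega)
    have hW₀D₀ : W₀ ≤ D₀ := hW₀D.trans inf_le_left
    refine ⟨W ⊔ W₀, sup_le hWS (hW₀D₀.trans (hD₀ ▸ inf_le_right)), inv_sup hW hW₀,
      sing_sup hWiso hW₀iso (hW₀D₀.trans (hD₀ ▸ inf_le_left)), ?_⟩
    have h1 := Submodule.finrank_sup_add_finrank_inf_eq W W₀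
    rw [disjoint_iff.1 (hc.disjoint.mono_right (hW₀D.trans inf_le_right)), finrank_bot, add_zero, hWd, hW₀d] at h1
    rw [h1]; ring

section Finite

variable [Fintype F]

/-- polarisation -/
theorem exists_anisotropic (hF : Fintype.card F = q ^ 2) {U : Submodule F (Fin n → F)} {u v : Fin n → F} (hu : u ∈ U)
    (hv : v ∈ U) (h : C.form u v ≠ 0) : ∃ w ∈ U, C.form w w ≠ 0 := by
  by_contra hcon
  push Not at hcon
  obtain ⟨d, -, hd⟩ := C.exists_trace_ne_zero
  have h1 := hcon ((d / C.form u v) • u + v) (U.add_mem (U.smul_mem _ hu) hv)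
  simp only [C.form_add_left, C.form_add_right, C.form_smul_left, C.form_smul_right, hcon u hu, hcon v hv] at h1
  rw [← C.bar_form u v, ← map_mul, div_mul_cancel₀ _ h] at h1
  exact hd (by linear_combination h1)

/-- singular subspaces of a space of scalars -/
theorem scalar_sing (hF : Fintype.card F = q ^ 2) {T : Module.End F (Fin n → F)} {S : Submodule F (Fin n → F)} {c : F}
    (hS : ∀ u ∈ S, T u = c • u) (hnd : Nd C S) {j : ℕ} (hj : 2 * j ≤ Module.finrank F S) :
    ∃ W ≤ S, Inv T W ∧ Sing C W ∧ Module.finrank F W = j := by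
  have hinv : ∀ W ≤ S, Inv T W := fun W hW u hu => by rw [hS u (hW hu)]; exact W.smul_mem c hu
  have hid : Iso C (1 : Module.End F (Fin n → F)) := fun u v => rfl
  obtain ⟨W, h1, -, h3, h4⟩ := sing_chain (T := (1 : Module.End F (Fin n → F))) hid
    (fun W _ => by
      obtain ⟨Q, hQ⟩ := Submodule.exists_isCompl W
      exact ⟨Q, fun u hu => hu, hQ⟩)
    (S := S) (fun u hu => hu) (w₀ := 1) (c₀ := 1) (fun D hD _ hlt => by
      classical
      by_cases hsing : Sing C D
      · obtain ⟨v, hv, hv0⟩ := Submodule.exists_mem_ne_zero_of_ne_bot (fun h : D = ⊥ => by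
          rw [h, finrank_bot] at hlt; exact Nat.not_lt_zero _ hlt)
        refine ⟨Submodule.span F {v}, (Submodule.span_singleton_le_iff_mem _ _).2 hv, fun u hu => hu, fun a ha b hb => ?_,
          finrank_span_singleton hv0⟩
        exact hsing a ((Submodule.span_singleton_le_iff_mem _ _).2 hv ha) b
          ((Submodule.span_singleton_le_iff_mem _ _).2 hv hb)
      · simp only [Sing, not_forall] at hsing
        obtain ⟨u, hu, v, hv, huv⟩ := hsing
        obtain ⟨w, hw, hww⟩ := exists_anisotropic hF hu hv huv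
        obtain ⟨z, hz, hz0, hzw⟩ : ∃ z ∈ D, z ≠ 0 ∧ C.form z w = 0 := by
          obtain ⟨φ, hφ⟩ : ∃ φ : D →ₗ[F] F, ∀ x : D, φ x = C.form (x : Fin n → F) w :=
            ⟨{ toFun := fun x => C.form (x : Fin n → F) w
               map_add' := fun a b => C.form_add_left _ _ _
               map_smul' := fun a b => C.form_smul_left _ _ _ }, fun x => rfl⟩
          obtain ⟨z, hz, hz0⟩ := Submodule.exists_mem_ne_zero_of_ne_bot (LinearMap.ker_ne_bot_of_finrank_lt (f := φ)
            (by rw [Module.finrank_self]; exact hlt))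
          exact ⟨z, z.2, fun h => hz0 (Subtype.ext h), by rw [← hφ]; exact LinearMap.mem_ker.1 hz⟩
        have key : ∃ y ∈ D, y ≠ 0 ∧ C.form y y = 0 := by
          by_cases hzz : C.form z z = 0
          · exact ⟨z, hz, hz0, hzz⟩
          obtain ⟨a, ha⟩ := C.exists_norm (c := -C.form z z / C.form w w)
            (by rw [map_div₀, map_neg, C.form_self_fixed, C.form_self_fixed])
          refine ⟨z + a • w, D.add_mem hz (D.smul_mem a hw), fun h => ?_, ?_⟩
          · have h' := congrArg (C.form · z) h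
            simp only [C.form_add_left, C.form_smul_left, C.form_swap_zero hzw, mul_zero, add_zero,
              C.form_zero_left] at h'
            exact hzz h'
          · simp only [C.form_add_left, C.form_add_right, C.form_smul_left, C.form_smul_right, hzw,
              C.form_swap_zero hzw, mul_zero, add_zero, zero_add, ← mul_assoc, ha]
            rw [div_mul_cancel₀ _ hww, add_neg_cancel]
        obtain ⟨y, hy, hy0, hyy⟩ := key
        refine ⟨Submodule.span F {y}, (Submodule.span_singleton_le_iff_mem _ _).2 hy, fun u hu => hu, fun a ha b hb => ?_,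
          finrank_span_singleton hy0⟩
        obtain ⟨a', rfl⟩ := Submodule.mem_span_singleton.1 ha
        obtain ⟨b', rfl⟩ := Submodule.mem_span_singleton.1 hb
        rw [C.form_smul_left, C.form_smul_right, hyy, mul_zero, mul_zero])
    j (by omega)
  exact ⟨W, h1, hinv W h1, h3, by rw [h4, mul_one]⟩

/-- nondegenerate subspaces of a space of scalars -/
theorem scalar_nd (hF : Fintype.card F = q ^ 2) {T : Module.End F (Fin n → F)} {S : Submodule F (Fin n → F)} {c : F}
    (hS : ∀ u ∈ S, T u = c • u) (hnd : Nd C S) {j : ℕ} (hj : j ≤ Module.finrank F S) :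
    ∃ W ≤ S, Inv T W ∧ Nd C W ∧ Module.finrank F W = j := by
  have hinv : ∀ W ≤ S, Inv T W := fun W hW u hu => by rw [hS u (hW hu)]; exact W.smul_mem c hu
  have hid : Iso C (1 : Module.End F (Fin n → F)) := fun u v => rfl
  obtain ⟨k, hk, hex⟩ := block_chain (C := C) hid (c := 1) one_pos (S₀ := S) (fun S' _ _ hnd' hne => by
      obtain ⟨u, hu, hu0⟩ := Submodule.exists_mem_ne_zero_of_ne_bot hne
      obtain ⟨v, hv, huv⟩ := (nd_iff S').1 hnd' u hu hu0
      obtain ⟨w, hw, hww⟩ := exists_anisotropic hF hu hv huv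
      refine ⟨Submodule.span F {w}, (Submodule.span_singleton_le_iff_mem _ _).2 hw, fun a ha => ha, fun a ha h => ?_,
        finrank_span_singleton (fun h0 => hww (by rw [h0, C.form_zero_left]))⟩
      obtain ⟨a', rfl⟩ := Submodule.mem_span_singleton.1 ha
      have h' := h w (Submodule.mem_span_singleton_self w)
      rw [C.form_smul_left] at h'
      rw [(mul_eq_zero.1 h').resolve_right hww, zero_smul])
    le_rfl (fun u hu => hu) hnd
  obtain ⟨W, h1, -, h3, h4⟩ := hex j (by rw [hk, mul_one] at hj; exact hj)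
  exact ⟨W, h1, hinv W h1, h3, by rw [h4, mul_one]⟩

end Finite

end CfsgLib.Perm.Elusive.HermIso
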