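import Mathlib
import Cfsg.Agent.Lib.Perm.Elusive.HermIso.Space
import Cfsg.Agent.Lib.Perm.Elusive.Semisimple
import Cfsg.Agent.Lib.Classical.HermTori

/-!
# Primary components of isometries of hermitian forms

The component of an irreducible polynomial `g` is orthogonal to that of every polynomial coprime to the
dual of `g`. In a component with `α ^ (q ^ b + 1) = 1` for a root `α` the isotropic cyclic subspaces come
from norms of the field extension generated by `α`.
-/

set_option autoImplicit false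
set_option linter.all false

namespace CfsgLib.Perm.Elusive.HermIso

open Polynomial CfsgLib.SU CfsgLib.Classical

variable {F : Type*} [Field F] {q : ℕ} {C : UCtx F q} {n : ℕ} {T : Module.End F (Fin n → F)}

/-- the polynomial of the inverse conjugate roots -/
noncomputable def dualPoly (C : UCtx F q) (g : F[X]) : F[X] := (g.map (C.bar : F →+* F)).reverse

theorem aeval_inv (T : Module.End F (Fin n → F)) (P : F[X]) {W : Submodule F (Fin n → F)} (hW : Inv T W) :
    Inv (aeval T P) W := fun u hu => aeval_mem_of_invariant T hW P hu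

theorem ker_inv (T : Module.End F (Fin n → F)) (P : F[X]) : Inv T (LinearMap.ker (aeval T P)) := fun u hu => by
  rw [LinearMap.mem_ker] at hu ⊢
  rw [show T u = aeval T (X : F[X]) u by rw [aeval_X], ← Module.End.mul_apply, ← map_mul, mul_comm, map_mul,
    Module.End.mul_apply, hu, map_zero]

theorem aeval_of_dvd {P Q : F[X]} (h : P ∣ Q) {u : Fin n → F} (hu : aeval T P u = 0) : aeval T Q u = 0 := by
  obtain ⟨R, rfl⟩ := h
  rw [mul_comm, map_mul, Module.End.mul_apply, hu, map_zero]

theorem form_dual (hI : Iso C T) (g : F[X]) (u v : Fin n → F) :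
    C.form (aeval T g u) ((T ^ g.natDegree) v) = C.form u (aeval T (dualPoly C g) v) := by
  have hdeg : (dualPoly C g).natDegree < g.natDegree + 1 := by
    refine Nat.lt_succ_of_le ((reverse_natDegree_le _).trans ?_)
    exact natDegree_map_le
  rw [aeval_eq_sum_range, aeval_eq_sum_range' hdeg, LinearMap.sum_apply, LinearMap.sum_apply, C.form_sum_left,
    form_neg_sum]
  conv_rhs => rw [← Finset.sum_range_reflect]
  refine Finset.sum_congr rfl fun a ha => ?_
  have ha' : a ≤ g.natDegree := Nat.lt_succ_iff.1 (Finset.mem_range.1 ha)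
  rw [LinearMap.smul_apply, LinearMap.smul_apply, C.form_smul_left, C.form_smul_right,
    show g.natDegree + 1 - 1 - a = g.natDegree - a by omega]
  have hc : C.bar ((dualPoly C g).coeff (g.natDegree - a)) = g.coeff a := by
    rw [dualPoly, coeff_reverse, natDegree_map_eq_of_injective (C.bar : F →+* F).injective, coeff_map,
      revAt_le (Nat.sub_le _ _), Nat.sub_sub_self ha']
    exact C.bar_bar _
  rw [hc]
  congr 1
  rw [show (T ^ g.natDegree) v = (T ^ a) ((T ^ (g.natDegree - a)) v) by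
    rw [← Module.End.mul_apply, ← pow_add, Nat.add_sub_cancel' ha'], (hI.pow a)]

theorem form_eq_zero_of_coprime (hI : Iso C T) {g h : F[X]} (hco : IsCoprime h (dualPoly C g)) {u v : Fin n → F}
    (hu : aeval T g u = 0) (hv : aeval T h v = 0) : C.form u v = 0 := by
  obtain ⟨a, b, hab⟩ := hco
  have h1 := congrArg (fun P => aeval T P v) hab
  simp only [map_add, map_mul, map_one, LinearMap.add_apply, Module.End.mul_apply, Module.End.one_apply, hv, map_zero,
    zero_add] at h1
  rw [← Module.End.mul_apply, ← map_mul, mul_comm, map_mul, Module.End.mul_apply] at h1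
  rw [← h1, ← form_dual hI, hu, C.form_zero_left]

/-- cyclic subspaces -/
noncomputable def cyc (T : Module.End F (Fin n → F)) (u : Fin n → F) : Submodule F (Fin n → F) :=
  LinearMap.range ((LinearMap.applyₗ u).comp (aeval T : F[X] →ₐ[F] Module.End F (Fin n → F)).toLinearMap)

theorem mem_cyc {u x : Fin n → F} : x ∈ cyc T u ↔ ∃ f : F[X], aeval T f u = x := by
  simp [cyc, LinearMap.mem_range]

theorem self_mem_cyc (u : Fin n → F) : u ∈ cyc T u := mem_cyc.2 ⟨1, by simp⟩

theorem cyc_inv (u : Fin n → F) : Inv T (cyc T u) := fun x hx => by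
  obtain ⟨f, rfl⟩ := mem_cyc.1 hx
  exact mem_cyc.2 ⟨X * f, by rw [map_mul, Module.End.mul_apply, aeval_X]⟩

theorem cyc_le {u : Fin n → F} {W : Submodule F (Fin n → F)} (hW : Inv T W) (hu : u ∈ W) : cyc T u ≤ W := fun x hx => by
  obtain ⟨f, rfl⟩ := mem_cyc.1 hx
  exact aeval_mem_of_invariant T hW f hu

theorem finrank_cyc {g : F[X]} (hgm : g.Monic) (hg : Irreducible g) {u : Fin n → F} (hu : aeval T g u = 0) (hu0 : u ≠ 0) :
    Module.finrank F (cyc T u) = g.natDegree := by
  have hli : LinearIndependent F fun a : Fin g.natDegree => (T ^ (a : ℕ)) u := by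
    rw [Fintype.linearIndependent_iff]
    intro c hc a
    obtain ⟨h, hh⟩ : ∃ h : F[X], h = ∑ a : Fin g.natDegree, Polynomial.C (c a) * X ^ (a : ℕ) := ⟨_, rfl⟩
    have hev : aeval T h u = 0 := by
      rw [hh, map_sum, LinearMap.sum_apply]
      simpa [Module.algebraMap_end_apply] using hc
    have hcoef : ∀ a : Fin g.natDegree, h.coeff a = c a := fun a => by
      rw [hh, finset_sum_coeff, Finset.sum_eq_single a]
      · simp [coeff_X_pow]
      · intro b _ hb
        simp [coeff_X_pow, Fin.val_ne_of_ne hb.symm]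
      · simp
    by_contra hca
    have h0 : h ≠ 0 := fun e => hca (by rw [← hcoef a, e, coeff_zero])
    obtain ⟨a', b', hab⟩ := hg.coprime_iff_not_dvd.2 (fun hdvd => by
      have h1 := natDegree_le_of_dvd hdvd h0
      have h2 : h.natDegree < g.natDegree := by
        rw [natDegree_lt_iff_degree_lt h0, hh]
        exact degree_sum_fin_lt c
      omega : ¬ g ∣ h)
    have e := congrArg (fun P => aeval T P u) hab
    simp only [map_add, map_mul, map_one, LinearMap.add_apply, Module.End.mul_apply, Module.End.one_apply, hu, hev,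
      map_zero, add_zero] at e
    exact hu0 e.symm
  have hspan : cyc T u = Submodule.span F (Set.range fun a : Fin g.natDegree => (T ^ (a : ℕ)) u) := by
    refine le_antisymm (fun x hx => ?_) (Submodule.span_le.2 ?_)
    · obtain ⟨f, rfl⟩ := mem_cyc.1 hx
      have e : aeval T f u = aeval T (f %ₘ g) u := by
        conv_lhs => rw [← modByMonic_add_div f g, map_add, LinearMap.add_apply,
          aeval_of_dvd (dvd_mul_right g _) hu, add_zero]
      rw [e, aeval_eq_sum_range' (natDegree_modByMonic_lt f hgm hg.ne_one) T, LinearMap.sum_apply]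
      refine Submodule.sum_mem _ fun a ha => ?_
      rw [LinearMap.smul_apply]
      exact Submodule.smul_mem _ _ (Submodule.subset_span ⟨⟨a, Finset.mem_range.1 ha⟩, rfl⟩)
    · rintro _ ⟨a, rfl⟩
      exact mem_cyc.2 ⟨X ^ (a : ℕ), by rw [map_pow, aeval_X]⟩
  rw [hspan, finrank_span_eq_card hli, Fintype.card_fin]

/-- invariant subspaces of a cyclic one -/
theorem cyc_minimal {g : F[X]} (hgm : g.Monic) (hg : Irreducible g) {u : Fin n → F} (hu : aeval T g u = 0) (hu0 : u ≠ 0)
    {W : Submodule F (Fin n → F)} (hW : Inv T W) (hWle : W ≤ cyc T u) (hne : W ≠ ⊥) : W = cyc T u := by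
  obtain ⟨w, hw, hw0⟩ := Submodule.exists_mem_ne_zero_of_ne_bot hne
  have hwg : aeval T g w = 0 := LinearMap.mem_ker.1 (cyc_le (ker_inv T g) (LinearMap.mem_ker.2 hu) (hWle hw))
  refine Submodule.eq_of_le_of_finrank_le hWle ?_
  rw [finrank_cyc hgm hg hu hu0, ← finrank_cyc hgm hg hwg hw0]
  exact Submodule.finrank_mono (cyc_le hW hw)

theorem cyc_nd_or_sing (hI : Iso C T) {g : F[X]} (hgm : g.Monic) (hg : Irreducible g) {u : Fin n → F}
    (hu : aeval T g u = 0) (hu0 : u ≠ 0) : Nd C (cyc T u) ∨ Sing C (cyc T u) := by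
  by_cases h : cyc T u ⊓ perp C (cyc T u) = ⊥
  · exact Or.inl (nd_disjoint.2 (disjoint_iff.2 h))
  · right
    have he := cyc_minimal hgm hg hu hu0 (inv_inf (cyc_inv u) (hI.perp_inv (cyc_inv u))) inf_le_left h
    intro a ha b hb
    exact (inf_eq_left.1 he ha) b hb

/-- invariant subspaces inside a component -/
theorem dvd_finrank {g : F[X]} (hgm : g.Monic) (hg : Irreducible g) {W : Submodule F (Fin n → F)} (hW : Inv T W)
    (hker : ∀ u ∈ W, aeval T g u = 0) : g.natDegree ∣ Module.finrank F W := by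
  obtain ⟨k, v, b, -, -⟩ := exists_chains (T.restrict hW) (P := g) (LinearMap.ext fun u => Subtype.ext (by
      rw [restrict_aeval_coe T hW]; exact hker u u.2)) hg.squarefree (d := g.natDegree) (fun h hh hhd =>
      natDegree_eq_of_degree_eq (degree_eq_degree_of_associated (hh.associated_of_dvd hg hhd)))
  exact ⟨k, by rw [Module.finrank_eq_card_basis b, Fintype.card_prod, Fintype.card_fin, Fintype.card_fin, mul_comm]⟩

/-- components without self-duality are totally isotropic -/
theorem sing_component (hI : Iso C T) {g : F[X]} (hg : Irreducible g) (hnd : ¬ g ∣ dualPoly C g) :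
    Sing C (LinearMap.ker (aeval T g)) := fun u hu v hv =>
  form_eq_zero_of_coprime hI (hg.coprime_iff_not_dvd.2 hnd) (LinearMap.mem_ker.1 hu) (LinearMap.mem_ker.1 hv)

variable [Fintype F]

/-- isotropic cyclic subspaces in a large self-dual component -/
theorem exists_sing_cyclic (hF : Fintype.card F = q ^ 2) (hI : Iso C T) {g : F[X]} (hgm : g.Monic) (hg : Irreducible g)
    (hodd : Odd g.natDegree) (hroot : AdjoinRoot.root g ^ (q ^ g.natDegree + 1) = 1) {U : Submodule F (Fin n → F)}
    (hU : Inv T U) (hker : ∀ u ∈ U, aeval T g u = 0) (hlt : g.natDegree < Module.finrank F U) :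
    ∃ W ≤ U, Inv T W ∧ Sing C W ∧ Module.finrank F W = g.natDegree := by
  classical
  haveI : Fact (Irreducible g) := ⟨hg⟩
  haveI : Module.Finite F (AdjoinRoot g) := hgm.finite_adjoinRoot
  haveI : Finite (AdjoinRoot g) := Module.finite_of_finite F
  obtain ⟨v₁, hv₁, hv₁0⟩ := Submodule.exists_mem_ne_zero_of_ne_bot (fun h : U = ⊥ => by
    rw [h, finrank_bot] at hlt; exact Nat.not_lt_zero _ hlt)
  have hfin : ∀ v, aeval T g v = 0 → v ≠ 0 → v ∈ U → Sing C (cyc T v) →
      ∃ W ≤ U, Inv T W ∧ Sing C W ∧ Module.finrank F W = g.natDegree := fun v hv hv0 hvU hs =>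
    ⟨cyc T v, cyc_le hU hvU, cyc_inv v, hs, finrank_cyc hgm hg hv hv0⟩
  rcases cyc_nd_or_sing hI hgm hg (hker v₁ hv₁) hv₁0 with hnd₁ | hs
  swap
  · exact hfin v₁ (hker v₁ hv₁) hv₁0 hv₁ hs
  obtain ⟨v₂, hv₂, hv₂0⟩ := Submodule.exists_mem_ne_zero_of_ne_bot (p := U ⊓ perp C (cyc T v₁)) (fun h => by
    have h1 := Submodule.finrank_sup_add_finrank_inf_eq U (perp C (cyc T v₁))
    have h2 := Submodule.finrank_le (U ⊔ perp C (cyc T v₁))
    have h3 := finrank_perp (C := C) (cyc T v₁)
    rw [h, finrank_bot] at h1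
    rw [finrank_cyc hgm hg (hker v₁ hv₁) hv₁0] at h3
    rw [Module.finrank_fin_fun] at h2
    omega)
  rcases cyc_nd_or_sing hI hgm hg (hker v₂ hv₂.1) hv₂0 with hnd₂ | hs
  swap
  · exact hfin v₂ (hker v₂ hv₂.1) hv₂0 hv₂.1 hs
  -- the involution of the field
  obtain ⟨p, a, hp, hpF, hq⟩ : ∃ p a : ℕ, p.Prime ∧ CharP F p ∧ q = p ^ a := by
    obtain ⟨p, hp⟩ := CharP.exists F
    obtain ⟨k, hpp, hk⟩ := FiniteField.card F p
    rw [hF] at hk
    obtain ⟨f, -, hq⟩ := (Nat.dvd_prime_pow hpp).1 (hk ▸ dvd_pow_self q two_ne_zero)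
    exact ⟨p, f, hpp, hp, hq⟩
  haveI := Fact.mk hp
  haveI : CharP (AdjoinRoot g) p := charP_of_injective_algebraMap (algebraMap F (AdjoinRoot g)).injective p
  obtain ⟨st, hst⟩ : ∃ st : AdjoinRoot g →+* AdjoinRoot g, ∀ y, st y = y ^ q ^ g.natDegree :=
    ⟨iterateFrobenius (AdjoinRoot g) p (a * g.natDegree), fun y => by rw [iterateFrobenius_def, hq, ← pow_mul]⟩
  have hstc : ∀ c : F, st (algebraMap F (AdjoinRoot g) c) = algebraMap F (AdjoinRoot g) (C.bar c) := fun c => by
    rw [hst, ← map_pow, HermTori.bar_odd C hF hodd]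
  have hst2 : ∀ y, st (st y) = y := fun y => by
    letI : Fintype (AdjoinRoot g) := Fintype.ofFinite _
    have hcard : Fintype.card (AdjoinRoot g) = q ^ g.natDegree * q ^ g.natDegree := by
      rw [Module.card_eq_pow_finrank (K := F), (AdjoinRoot.powerBasis hgm.ne_zero).finrank, AdjoinRoot.powerBasis_dim, hF,
        ← pow_mul, ← pow_add, two_mul]
    rw [hst, hst, ← pow_mul, ← hcard, FiniteField.pow_card]
  have hstne : st ≠ RingHom.id _ := fun h => by
    obtain ⟨y, hy⟩ := C.exists_not_fixed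
    have h1 := hstc y
    rw [h, RingHom.id_apply] at h1
    exact hy ((algebraMap F (AdjoinRoot g)).injective h1).symm
  obtain ⟨α, hα⟩ : ∃ α, α = AdjoinRoot.root g := ⟨_, rfl⟩
  rw [← hα] at hroot
  obtain ⟨Y, hY⟩ := AdjoinRoot.mk_surjective (g := g) (st α)
  have hYX : g ∣ Y * X - 1 := by
    rw [← AdjoinRoot.mk_eq_zero, map_sub, map_mul, AdjoinRoot.mk_X, map_one, hY, hst, ← hα, ← pow_succ, hroot, sub_self]
  -- moving polynomials across the form
  have hmove : ∀ (f : F[X]) (u v : Fin n → F), aeval T g v = 0 →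
      C.form (aeval T f u) v = C.form u (aeval T ((f.map (C.bar : F →+* F)).comp Y) v) := by
    intro f
    induction f using Polynomial.induction_on' with
    | add f₁ f₂ h₁ h₂ =>
      intro u v hv
      simp only [Polynomial.map_add, add_comp, map_add, LinearMap.add_apply, C.form_add_left, C.form_add_right,
        h₁ u v hv, h₂ u v hv]
    | monomial j c =>
      intro u v hv
      rw [map_monomial, monomial_comp, aeval_monomial, map_mul, aeval_C, map_pow, Module.End.mul_apply,
        Module.End.mul_apply, Module.algebraMap_end_apply, Module.algebraMap_end_apply, C.form_smul_left,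
        C.form_smul_right]
      rw [show C.bar ((C.bar : F →+* F) c) = c from C.bar_bar c]
      congr 1
      induction j generalizing v with
      | zero => simp
      | succ j ih =>
        have hYv : T (aeval T Y v) = v := by
          have h0 := aeval_of_dvd (T := T) hYX hv
          rw [mul_comm, map_sub, map_mul, aeval_X, map_one, LinearMap.sub_apply, Module.End.mul_apply,
            Module.End.one_apply, sub_eq_zero] at h0
          exact h0
        rw [pow_succ', Module.End.mul_apply]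
        conv_lhs => rw [← hYv]
        rw [hI, ih (aeval T Y v) (by
          rw [← Module.End.mul_apply, ← map_mul, mul_comm, map_mul, Module.End.mul_apply, hv, map_zero]),
          ← Module.End.mul_apply, ← pow_succ]
  have hbar : ∀ f : F[X], AdjoinRoot.mk g ((f.map (C.bar : F →+* F)).comp Y) = st (AdjoinRoot.mk g f) := by
    intro f
    rw [← AdjoinRoot.aeval_eq, aeval_comp, AdjoinRoot.aeval_eq Y, hY, hα, ← AdjoinRoot.aeval_eq f, aeval_def, aeval_def,
      hom_eval₂, eval₂_map]
    congr 1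
    exact RingHom.ext fun c => (hstc c).symm
  -- functionals of vectors
  obtain ⟨Φ, hΦ⟩ : ∃ Φ : (Fin n → F) → (AdjoinRoot g →ₗ[F] F), ∀ v f, aeval T g v = 0 →
      Φ v (AdjoinRoot.mk g f) = C.form (aeval T f v) v := by
    refine ⟨fun v => LinearMap.comp
      { toFun := fun f => C.form (aeval T f v) v
        map_add' := fun a b => by rw [map_add, LinearMap.add_apply, C.form_add_left]
        map_smul' := fun c a => by rw [map_smul, LinearMap.smul_apply, C.form_smul_left]; rfl }
      (AdjoinRoot.modByMonicHom hgm), fun v f hv => ?_⟩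
    show C.form (aeval T (AdjoinRoot.modByMonicHom hgm (AdjoinRoot.mk g f)) v) v = _
    congr 1
    rw [AdjoinRoot.modByMonicHom_mk]
    conv_rhs => rw [← modByMonic_add_div f g, map_add, LinearMap.add_apply,
      aeval_of_dvd (dvd_mul_right g _) hv, add_zero]
  have hsing : ∀ v, aeval T g v = 0 → (∀ y, Φ v y = 0) → Sing C (cyc T v) := by
    intro v hv h0 a ha b hb
    obtain ⟨f, rfl⟩ := mem_cyc.1 ha
    obtain ⟨h, rfl⟩ := mem_cyc.1 hb
    have hker' : aeval T g (aeval T h v) = 0 :=
      LinearMap.mem_ker.1 (aeval_mem_of_invariant T (ker_inv T g) h (LinearMap.mem_ker.2 hv))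
    rw [hmove f v _ hker', ← C.bar_form, ← Module.End.mul_apply, ← map_mul, ← hΦ v _ hv, h0, map_zero]
  have hΦst : ∀ v y, aeval T g v = 0 → Φ v (st y) = C.bar (Φ v y) := by
    intro v y hv
    obtain ⟨f, rfl⟩ := AdjoinRoot.mk_surjective y
    rw [← hbar, hΦ v _ hv, hΦ v _ hv, hmove f v v hv, C.bar_form]
  have hk₁ := hker v₁ hv₁
  have hk₂ := hker v₂ hv₂.1
  have hne₂ : ∃ y, Φ v₂ y ≠ 0 := by
    by_contra hcon
    push Not at hcon
    exact hv₂0 (hnd₂ v₂ (self_mem_cyc v₂) fun x hx => hsing v₂ hk₂ hcon v₂ (self_mem_cyc v₂) x hx)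
  obtain ⟨μ, hμ⟩ : ∃ μ, ∀ y, Φ v₁ y = Φ v₂ (μ * y) := by
    obtain ⟨M, hM⟩ : ∃ M : AdjoinRoot g →ₗ[F] Module.Dual F (AdjoinRoot g), ∀ μ y, M μ y = Φ v₂ (μ * y) :=
      ⟨(LinearMap.mul F (AdjoinRoot g)).compr₂ (Φ v₂), fun μ y => rfl⟩
    have hinj : Function.Injective M := by
      refine (injective_iff_map_eq_zero M).2 fun μ hμ0 => ?_
      by_contra hne
      obtain ⟨y, hy⟩ := hne₂
      refine hy ?_
      have h := hM μ (μ⁻¹ * y)
      rw [hμ0, LinearMap.zero_apply, mul_inv_cancel_left₀ hne] at h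
      exact h.symm
    obtain ⟨μ, hμ⟩ := (LinearMap.injective_iff_surjective_of_finrank_eq_finrank
      (Subspace.dual_finrank_eq (K := F) (V := AdjoinRoot g)).symm).1 hinj (Φ v₁)
    exact ⟨μ, fun y => by rw [← hμ, hM]⟩
  have hμfix : st μ = μ := by
    by_contra hne
    obtain ⟨y, hy⟩ := hne₂
    obtain ⟨d, hd⟩ : ∃ d, (st μ - μ) * d = y := ⟨(st μ - μ)⁻¹ * y, mul_inv_cancel_left₀ (sub_ne_zero.2 hne) y⟩
    refine hy ?_
    have h := hΦst v₂ (μ * st d) hk₂
    rw [map_mul, hst2, ← hμ, ← hΦst v₁ _ hk₁, hst2, hμ] at h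
    rw [← hd, sub_mul, map_sub, h, sub_self]
  obtain ⟨l, hl⟩ := HermWitt.exists_norm (σ := st) hstne hst2 (c := -μ) (by rw [map_neg, hμfix])
  obtain ⟨h, rfl⟩ := AdjoinRoot.mk_surjective l
  obtain ⟨w, hw⟩ : ∃ w, w = v₁ + aeval T h v₂ := ⟨_, rfl⟩
  have hperp : ∀ a ∈ cyc T v₁, ∀ b ∈ cyc T v₂, C.form a b = 0 := fun a ha b hb =>
    perp_swap (cyc_le (hI.perp_inv (cyc_inv v₁)) hv₂.2 hb) ha
  have hwU : w ∈ U := hw ▸ U.add_mem hv₁ (aeval_mem_of_invariant T hU h hv₂.1)
  have hkw := hker w hwU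
  refine hfin w hkw (fun h0 => hv₁0 ?_) hwU (hsing w hkw fun y => ?_)
  · refine hnd₁ v₁ (self_mem_cyc v₁) fun x hx => C.form_swap_zero ?_
    rw [hw] at h0
    rw [eq_neg_of_add_eq_zero_left h0, C.form_neg_right, hperp x hx _ (mem_cyc.2 ⟨h, rfl⟩), neg_zero]
  · obtain ⟨f, rfl⟩ := AdjoinRoot.mk_surjective y
    have hm₁ : aeval T f v₁ ∈ cyc T v₁ := mem_cyc.2 ⟨f, rfl⟩
    have hm₂ : aeval T h v₂ ∈ cyc T v₂ := mem_cyc.2 ⟨h, rfl⟩
    have hm₃ : aeval T f (aeval T h v₂) ∈ cyc T v₂ := mem_cyc.2 ⟨f * h, by rw [map_mul, Module.End.mul_apply]⟩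
    rw [hΦ w f hkw, hw, map_add, C.form_add_left, C.form_add_right, C.form_add_right, hperp _ hm₁ _ hm₂,
      C.form_swap_zero (hperp _ (self_mem_cyc v₁) _ hm₃), add_zero, zero_add, ← hΦ v₁ f hk₁, ← C.bar_form,
      hmove h _ _ (LinearMap.mem_ker.1 (aeval_mem_of_invariant T (ker_inv T g) (f * h) (LinearMap.mem_ker.2 hk₂)) |>
        fun e => by rwa [map_mul, Module.End.mul_apply] at e),
      C.bar_form, ← Module.End.mul_apply, ← Module.End.mul_apply, ← map_mul, ← map_mul, ← hΦ v₂ _ hk₂,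
      map_mul (AdjoinRoot.mk g), map_mul (AdjoinRoot.mk g), hbar, hμ, ← map_add]
    convert map_zero (Φ v₂) using 2
    linear_combination (AdjoinRoot.mk g f) * hl

end CfsgLib.Perm.Elusive.HermIso
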