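import Mathlib
import Cfsg.Agent.Lib.Perm.Elusive.HermIso.Comp
import Cfsg.Agent.Lib.Perm.Elusive.PrimeOrderLinear
import Cfsg.Agent.Lib.Perm.Elusive.SympClassElement
import Cfsg.Agent.Lib.Perm.Elusive.IsotropicInvariant

/-!
# Isometries of prime order: fixed part, moved part, and their invariant subspaces
-/

set_option autoImplicit false
set_option linter.all false

namespace CfsgLib.Perm.Elusive.HermIso

open Polynomial CfsgLib.SU CfsgLib.Classical

variable {F : Type*} [Field F] {q : ℕ} {C : UCtx F q} {n : ℕ} {T : Module.End F (Fin n → F)}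

theorem dualPoly_ne_zero {g : F[X]} (hg : g ≠ 0) : dualPoly C g ≠ 0 := by
  rw [dualPoly, Ne, reverse_eq_zero]
  exact Polynomial.map_ne_zero hg

/-- evaluation of the dual polynomial -/
theorem aeval_dual {L : Type*} [Field L] [Algebra F L] (g : F[X]) {x : L} (hx : x ≠ 0) :
    aeval x (dualPoly C g) = 0 ↔ (g.map (C.bar : F →+* F)).eval₂ (algebraMap F L) x⁻¹ = 0 := by
  haveI : Invertible x⁻¹ := invertibleOfNonzero (inv_ne_zero hx)
  have h := eval₂_reverse_eq_zero_iff (algebraMap F L) x⁻¹ (g.map (C.bar : F →+* F))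
  rw [invOf_eq_inv, inv_inv] at h
  rw [aeval_def, dualPoly]
  exact h

variable [Fintype F]

/-- polynomials with roots of norm one are self-dual -/
theorem self_dual (hF : Fintype.card F = q ^ 2) {g : F[X]} (hg : Irreducible g) (hodd : Odd g.natDegree)
    (hroot : AdjoinRoot.root g ^ (q ^ g.natDegree + 1) = 1) : Associated g (dualPoly C g) := by
  haveI : Fact (Irreducible g) := ⟨hg⟩
  obtain ⟨α, hα⟩ : ∃ α, α = AdjoinRoot.root g := ⟨_, rfl⟩
  rw [← hα] at hroot
  have hα0 : α ≠ 0 := fun h => by rw [h, zero_pow (Nat.succ_ne_zero _)] at hroot; exact zero_ne_one hroot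
  obtain ⟨p, a, hp, hpF, hq⟩ : ∃ p a : ℕ, p.Prime ∧ CharP F p ∧ q = p ^ a := by
    obtain ⟨p, hp⟩ := CharP.exists F
    obtain ⟨k, hpp, hk⟩ := FiniteField.card F p
    rw [hF] at hk
    obtain ⟨f, -, hq⟩ := (Nat.dvd_prime_pow hpp).1 (hk ▸ dvd_pow_self q two_ne_zero)
    exact ⟨p, f, hpp, hp, hq⟩
  haveI := Fact.mk hp
  haveI : CharP (AdjoinRoot g) p := charP_of_injective_algebraMap (algebraMap F (AdjoinRoot g)).injective p
  obtain ⟨φ, hφ⟩ : ∃ φ : AdjoinRoot g →+* AdjoinRoot g, ∀ y, φ y = y ^ q ^ g.natDegree :=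
    ⟨iterateFrobenius (AdjoinRoot g) p (a * g.natDegree), fun y => by rw [iterateFrobenius_def, hq, ← pow_mul]⟩
  have hinv : φ α = α⁻¹ := by rw [hφ, ← mul_eq_one_iff_eq_inv₀ hα0, ← pow_succ, hroot]
  have hroot' : aeval α (dualPoly C g) = 0 := by
    rw [aeval_dual g hα0, ← hinv, eval₂_map]
    have h := hom_eval₂ g (algebraMap F (AdjoinRoot g)) φ α
    rw [hα, AdjoinRoot.algebraMap_eq, AdjoinRoot.eval₂_root, map_zero] at h
    rw [hα, AdjoinRoot.algebraMap_eq]
    refine Eq.trans ?_ h.symm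
    congr 1
    ext c
    simp only [RingHom.comp_apply, hφ, ← map_pow, HermTori.bar_odd C hF hodd]
    rfl
  rw [hα, AdjoinRoot.aeval_eq, AdjoinRoot.mk_eq_zero] at hroot'
  have hne := dualPoly_ne_zero (C := C) hg.ne_zero
  refine associated_of_dvd_of_natDegree_le hroot' hne ?_
  exact (reverse_natDegree_le _).trans natDegree_map_le

variable {p : ℕ} [Fact p.Prime] [CharP F p] {r : ℕ} [Fact r.Prime]

theorem card_cast (hF : Fintype.card F = q ^ 2) : ((Fintype.card F : ℕ) : ZMod r) = (q : ZMod r) ^ 2 := by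
  rw [hF, Nat.cast_pow]

theorem q_ne_zero (hF : Fintype.card F = q ^ 2) (hrp : r ≠ p) : (q : ZMod r) ≠ 0 := fun h =>
  card_ne_zero_zmod (F := F) (p := p) hrp (by rw [card_cast hF, h, zero_pow two_ne_zero])

/-- cyclotomic factors have the degree `b` -/
theorem factor_degree' (hF : Fintype.card F = q ^ 2) (hrp : r ≠ p) {i b : ℕ} (hi : i = orderOf (q : ZMod r))
    (hb : b = if Even i then i / 2 else i) :
    b = orderOf ((Fintype.card F : ℕ) : ZMod r) ∧
      ∀ g : F[X], Irreducible g → g ∣ cyclotomic r F → g.natDegree = b := by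
  have h : b = orderOf ((Fintype.card F : ℕ) : ZMod r) := by
    rw [card_cast hF, orderOf_pow' _ two_ne_zero, ← hi, hb]
    rcases Nat.even_or_odd i with he | ho
    · rw [if_pos he, Nat.gcd_eq_right he.two_dvd]
    · rw [if_neg (Nat.not_even_iff_odd.2 ho), (ho.coprime_two_right).gcd_eq_one, Nat.div_one]
  exact ⟨h, fun g hg hgd => by rw [h]; exact factor_degree (p := p) hrp hg hgd⟩

/-- in the case `i ≡ 2 (mod 4)` -/
theorem dvd_q_pow_succ (hF : Fintype.card F = q ^ 2) (hrp : r ≠ p) {i : ℕ} (hi : i = orderOf (q : ZMod r))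
    (h4 : i % 4 = 2) : r ∣ q ^ (i / 2) + 1 := by
  rw [← ZMod.natCast_eq_zero_iff]
  push_cast
  have h1 : ((q : ZMod r) ^ (i / 2)) ^ 2 = 1 := by
    rw [← pow_mul, show i / 2 * 2 = i by omega, hi]
    exact pow_orderOf_eq_one _
  have h2 : (q : ZMod r) ^ (i / 2) ≠ 1 := fun h => by
    have := Nat.le_of_dvd (by omega) (orderOf_dvd_of_pow_eq_one h)
    omega
  rcases sq_eq_one_iff.1 h1 with h | h
  · exact absurd h h2
  · rw [h]; ring

theorem self_dual_factor (hF : Fintype.card F = q ^ 2) (hrp : r ≠ p) {i b : ℕ} (hi : i = orderOf (q : ZMod r))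
    (hb : b = if Even i then i / 2 else i) (h4 : i % 4 = 2) {g : F[X]} (hg : Irreducible g)
    (hgd : g ∣ cyclotomic r F) :
    Odd g.natDegree ∧ AdjoinRoot.root g ^ (q ^ g.natDegree + 1) = 1 ∧ Associated g (dualPoly C g) := by
  have hev : Even i := ⟨i / 2, by omega⟩
  rw [if_pos hev] at hb
  have hdeg := (factor_degree' hF hrp hi (b := b) (by rw [hb, if_pos hev])).2 g hg hgd
  have hodd : Odd g.natDegree := ⟨i / 4, by omega⟩
  have hroot : AdjoinRoot.root g ^ (q ^ g.natDegree + 1) = 1 := by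
    obtain ⟨t, ht⟩ := dvd_q_pow_succ hF hrp hi h4
    have h : AdjoinRoot.root g ^ r = 1 := by
      have h0 := AdjoinRoot.mk_eq_zero.2 (hgd.trans (cyclotomic.dvd_X_pow_sub_one r F))
      rwa [map_sub, map_pow, AdjoinRoot.mk_X, map_one, sub_eq_zero] at h0
    rw [hdeg, hb, ht, pow_mul, h, one_pow]
  exact ⟨hodd, hroot, self_dual hF hg hodd hroot⟩

theorem not_self_dual (hF : Fintype.card F = q ^ 2) (hrp : r ≠ p) (hr2 : r ≠ 2) {i : ℕ}
    (hi : i = orderOf (q : ZMod r)) (h4 : i % 4 ≠ 2) {g : F[X]} (hg : Irreducible g) (hgm : g.Monic)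
    (hgd : g ∣ cyclotomic r F) : ¬ g ∣ dualPoly C g := by
  intro hdvd
  haveI : Fact (Irreducible g) := ⟨hg⟩
  obtain ⟨α, hα⟩ : ∃ α, α = AdjoinRoot.root g := ⟨_, rfl⟩
  have hr : r.Prime := Fact.out
  have hαr : α ^ r = 1 := by
    have h0 := AdjoinRoot.mk_eq_zero.2 (hgd.trans (cyclotomic.dvd_X_pow_sub_one r F))
    rw [map_sub, map_pow, AdjoinRoot.mk_X, map_one, sub_eq_zero] at h0
    rw [hα]; exact h0
  have hα1 : α ≠ 1 := fun h => by
    have h0 := AdjoinRoot.mk_eq_zero.2 hgd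
    rw [← AdjoinRoot.aeval_eq, ← hα, h, ← map_one (algebraMap F (AdjoinRoot g)), aeval_algebraMap_apply,
      coe_aeval_eq_eval, eval_one_cyclotomic_prime, map_natCast] at h0
    exact natCast_ne_zero_of_ne (F := F) hrp
      ((map_eq_zero (algebraMap F (AdjoinRoot g))).1 (by rw [map_natCast]; exact h0))
  have hα0 : α ≠ 0 := fun h => by rw [h, zero_pow hr.ne_zero] at hαr; exact zero_ne_one hαr
  have h1 : (g.map (C.bar : F →+* F)).eval₂ (algebraMap F (AdjoinRoot g)) α⁻¹ = 0 := by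
    rw [← aeval_dual g hα0, hα, AdjoinRoot.aeval_eq, AdjoinRoot.mk_eq_zero]
    exact hdvd
  obtain ⟨a, hq⟩ : ∃ a : ℕ, q = p ^ a := by
    obtain ⟨k, hpp, hk⟩ := FiniteField.card F p
    rw [hF] at hk
    obtain ⟨f, -, hq⟩ := (Nat.dvd_prime_pow hpp).1 (hk ▸ dvd_pow_self q two_ne_zero)
    exact ⟨f, hq⟩
  haveI : CharP (AdjoinRoot g) p := charP_of_injective_algebraMap (algebraMap F (AdjoinRoot g)).injective p
  obtain ⟨φ, hφ⟩ : ∃ φ : AdjoinRoot g →+* AdjoinRoot g, ∀ y, φ y = y ^ q :=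
    ⟨iterateFrobenius (AdjoinRoot g) p a, fun y => by rw [iterateFrobenius_def, hq]⟩
  have hx : aeval ((α⁻¹) ^ q) (minpoly F α) = 0 := by
    rw [hα, AdjoinRoot.minpoly_root hg.ne_zero, hgm.leadingCoeff, inv_one, map_one, mul_one, ← hα, aeval_def]
    have h := congrArg φ h1
    rw [map_zero, eval₂_map, hom_eval₂, hφ] at h
    refine Eq.trans ?_ h
    congr 1
    ext c
    simp only [RingHom.comp_apply, hφ, ← map_pow]
    congr 1
    show c = C.bar (c ^ q)
    rw [← C.bar_eq, C.bar_bar]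
  obtain ⟨m, hm⟩ := root_conjugate (p := p) hrp hαr hα1 hx
  have hord : orderOf α = r := orderOf_eq_prime hαr hα1
  have h2 : α ^ (q + (q ^ 2) ^ m) = 1 := by
    rw [pow_add, ← hF, ← hm, ← mul_pow, mul_inv_cancel₀ hα0, one_pow]
  have h3 : ((q : ZMod r) + ((q : ZMod r) ^ 2) ^ m) = 0 := by
    have := (ZMod.natCast_eq_zero_iff _ r).2 (hord ▸ orderOf_dvd_of_pow_eq_one h2)
    push_cast at this
    exact this
  obtain ⟨j, hjodd, hj⟩ : ∃ j, Odd j ∧ (q : ZMod r) ^ j = -1 := by
    rcases m with _ | m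
    · exact ⟨1, odd_one, by rw [pow_one]; rw [pow_zero] at h3; linear_combination h3⟩
    · refine ⟨2 * m + 1, ⟨m, rfl⟩, mul_left_cancel₀ (q_ne_zero (p := p) hF hrp) ?_⟩
      rw [← pow_mul] at h3
      rw [← pow_succ', show 2 * m + 1 + 1 = 2 * (m + 1) by ring]
      linear_combination h3
  haveI : Fact (2 < r) := ⟨lt_of_le_of_ne hr.two_le (Ne.symm hr2)⟩
  have hd1 : i ∣ 2 * j := hi ▸ orderOf_dvd_of_pow_eq_one (by rw [mul_comm, pow_mul, hj]; ring)
  have hd2 : ¬ i ∣ j := fun h => by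
    rw [hi, orderOf_dvd_iff_pow_eq_one, hj] at h
    exact ZMod.neg_one_ne_one h
  obtain ⟨u, hu⟩ := hjodd
  rcases Nat.even_or_odd i with ⟨w, hw⟩ | ho
  · have hwj : w ∣ j := by
      obtain ⟨e, he⟩ := hd1
      exact ⟨e, by rw [hw, ← two_mul, mul_assoc] at he; omega⟩
    rcases Nat.even_or_odd w with ⟨w', hw'⟩ | ⟨w', hw'⟩
    · have : 2 ∣ j := (Dvd.intro w' (by omega : 2 * w' = w)).trans hwj
      omega
    · omega
  · exact hd2 ((Nat.Coprime.dvd_mul_left (ho.coprime_two_right)).1 hd1)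

omit [Fintype F] [Fact p.Prime] [CharP F p] [Fact r.Prime]

/-- invariant subspaces are spanned by their components -/
theorem le_of_components {P : F[X]} (hsq : Squarefree P) {S U : Submodule F (Fin n → F)} (hS : Inv T S)
    (hker : ∀ u ∈ S, aeval T P u = 0)
    (h : ∀ g : F[X], Irreducible g → g.Monic → g ∣ P → ∀ u ∈ S, aeval T g u = 0 → u ∈ U) : S ≤ U := by
  intro u hu
  have hle := ker_le_of_factors (T.restrict hS) (U := U.comap S.subtype) P hsq (fun g hg hgd w hw => by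
    have hlc : g.leadingCoeff ≠ 0 := leadingCoeff_ne_zero.2 hg.ne_zero
    have hass : Associated g (g * Polynomial.C g.leadingCoeff⁻¹) :=
      associated_mul_unit_right _ _ (isUnit_C.2 (IsUnit.mk0 _ (inv_ne_zero hlc)))
    refine h _ (hass.irreducible hg) (monic_mul_leadingCoeff_inv hg.ne_zero) (hass.symm.dvd.trans hgd) w w.2 ?_
    refine aeval_of_dvd (dvd_mul_right g _) ?_
    rw [← restrict_aeval_coe T hS, hw]; rfl)
  exact hle (x := ⟨u, hu⟩) (LinearMap.mem_ker.2 (Subtype.ext ((restrict_aeval_coe T hS P ⟨u, hu⟩).trans (hker u hu))))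

theorem exists_component {P : F[X]} (hsq : Squarefree P) {S : Submodule F (Fin n → F)} (hS : Inv T S)
    (hker : ∀ u ∈ S, aeval T P u = 0) (hne : S ≠ ⊥) :
    ∃ g : F[X], Irreducible g ∧ g.Monic ∧ g ∣ P ∧ ∃ u ∈ S, u ≠ 0 ∧ aeval T g u = 0 := by
  by_contra hcon
  push Not at hcon
  refine hne (le_bot_iff.1 (le_of_components hsq hS hker fun g hg hgm hgd u hu hu0 => ?_))
  rw [Submodule.mem_bot]
  by_contra h
  exact hcon g hg hgm hgd u hu h hu0

/-- every vector of a nondegenerate invariant subspace is paired with a component -/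
theorem exists_partner {P : F[X]} (hsq : Squarefree P) {S : Submodule F (Fin n → F)} (hS : Inv T S)
    (hker : ∀ u ∈ S, aeval T P u = 0) (hnd : Nd C S) {u : Fin n → F} (hu : u ∈ S) (hu0 : u ≠ 0) :
    ∃ h : F[X], Irreducible h ∧ h.Monic ∧ h ∣ P ∧ ∃ v ∈ S, aeval T h v = 0 ∧ C.form u v ≠ 0 := by
  by_contra hcon
  push Not at hcon
  refine hu0 (hnd u hu fun v hv => ?_)
  have hle : S ≤ perp C (Submodule.span F {u}) := le_of_components hsq hS hker fun h hh hhm hhd v hv hv0 w hw => by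
    obtain ⟨c, rfl⟩ := Submodule.mem_span_singleton.1 hw
    rw [C.form_smul_right, C.form_swap_zero (hcon h hh hhm hhd v hv hv0), mul_zero]
  exact C.form_swap_zero (hle hv u (Submodule.mem_span_singleton_self u))

theorem cyc_le_ker {g : F[X]} {u : Fin n → F} (hu : aeval T g u = 0) : cyc T u ≤ LinearMap.ker (aeval T g) :=
  cyc_le (ker_inv T g) (LinearMap.mem_ker.2 hu)

/-- a nondegenerate cyclic subspace in the self-dual case -/
theorem nd_step_selfdual [Fintype F] (hF : Fintype.card F = q ^ 2) (hI : Iso C T) {P : F[X]} (hsq : Squarefree P) {d : ℕ}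
    (hdeg : ∀ g, Irreducible g → g ∣ P → g.natDegree = d)
    (hsd : ∀ g, Irreducible g → g.Monic → g ∣ P → Associated g (dualPoly C g))
    {S : Submodule F (Fin n → F)} (hS : Inv T S) (hker : ∀ u ∈ S, aeval T P u = 0) (hnd : Nd C S) (hne : S ≠ ⊥) :
    ∃ W ≤ S, Inv T W ∧ Nd C W ∧ Module.finrank F W = d := by
  obtain ⟨g, hg, hgm, hgd, u, hu, hu0, hgu⟩ := exists_component hsq hS hker hne
  obtain ⟨h, hh, hhm, hhd, v, hv, hhv, huv⟩ := exists_partner hsq hS hker hnd hu hu0
  have hgh : h = g := by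
    by_contra hneq
    refine huv (form_eq_zero_of_coprime hI ?_ hgu hhv)
    have hco : IsCoprime h g := hh.coprime_iff_not_dvd.2 fun hd =>
      hneq (eq_of_monic_of_associated hhm hgm (hh.associated_of_dvd hg hd))
    exact hco.of_isCoprime_of_dvd_right (hsd g hg hgm hgd).symm.dvd
  subst hgh
  obtain ⟨w, hw, hww⟩ := exists_anisotropic hF (U := S ⊓ LinearMap.ker (aeval T h)) ⟨hu, LinearMap.mem_ker.2 hgu⟩
    ⟨hv, LinearMap.mem_ker.2 hhv⟩ huv
  have hw0 : w ≠ 0 := fun e => hww (by rw [e, C.form_zero_left])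
  have hgw : aeval T h w = 0 := LinearMap.mem_ker.1 hw.2
  refine ⟨cyc T w, cyc_le hS hw.1, cyc_inv w, ?_, by rw [finrank_cyc hgm hg hgw hw0, hdeg h hg hgd]⟩
  exact (cyc_nd_or_sing hI hgm hg hgw hw0).resolve_right fun hs => hww (hs w (self_mem_cyc w) w (self_mem_cyc w))

/-- a nondegenerate pair of cyclic subspaces when no factor is self-dual -/
theorem nd_step_pair (hI : Iso C T) {P : F[X]} (hsq : Squarefree P) {d : ℕ}
    (hdeg : ∀ g, Irreducible g → g ∣ P → g.natDegree = d)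
    (hsd : ∀ g, Irreducible g → g.Monic → g ∣ P → ¬ g ∣ dualPoly C g)
    {S : Submodule F (Fin n → F)} (hS : Inv T S) (hker : ∀ u ∈ S, aeval T P u = 0) (hnd : Nd C S) (hne : S ≠ ⊥) :
    ∃ W ≤ S, Inv T W ∧ Nd C W ∧ Module.finrank F W = 2 * d := by
  obtain ⟨g, hg, hgm, hgd, u, hu, hu0, hgu⟩ := exists_component hsq hS hker hne
  obtain ⟨h, hh, hhm, hhd, v, hv, hhv, huv⟩ := exists_partner hsq hS hker hnd hu hu0
  have hv0 : v ≠ 0 := fun e => huv (by rw [e, C.form_zero_right])
  have hA : Sing C (cyc T u) := fun a ha b hb =>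
    sing_component hI hg (hsd g hg hgm hgd) a (cyc_le_ker hgu ha) b (cyc_le_ker hgu hb)
  have hB : Sing C (cyc T v) := fun a ha b hb =>
    sing_component hI hh (hsd h hh hhm hhd) a (cyc_le_ker hhv ha) b (cyc_le_ker hhv hb)
  have hAi : cyc T u ⊓ perp C (cyc T v) = ⊥ := by
    by_contra hne'
    have he := cyc_minimal hgm hg hgu hu0 (inv_inf (cyc_inv u) (hI.perp_inv (cyc_inv v))) inf_le_left hne'
    exact huv ((inf_eq_left.1 he (self_mem_cyc u)) v (self_mem_cyc v))
  have hBi : cyc T v ⊓ perp C (cyc T u) = ⊥ := by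
    by_contra hne'
    have he := cyc_minimal hhm hh hhv hv0 (inv_inf (cyc_inv v) (hI.perp_inv (cyc_inv u))) inf_le_left hne'
    exact huv (C.form_swap_zero ((inf_eq_left.1 he (self_mem_cyc v)) u (self_mem_cyc u)))
  have hAB : cyc T u ⊓ cyc T v = ⊥ := le_bot_iff.1 fun x hx => hAi ▸ ⟨hx.1, fun w hw => hB x hx.2 w hw⟩
  refine ⟨cyc T u ⊔ cyc T v, sup_le (cyc_le hS hu) (cyc_le hS hv), inv_sup (cyc_inv u) (cyc_inv v), ?_, ?_⟩
  · intro x hx hxo
    obtain ⟨a, ha, b, hb, rfl⟩ := Submodule.mem_sup.1 hx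
    have ha0 : a = 0 := (Submodule.mem_bot F).1 (hAi ▸ (⟨ha, fun w hw => by
      have h0 := hxo w (Submodule.mem_sup_right hw)
      rwa [C.form_add_left, hB b hb w hw, add_zero] at h0⟩ : a ∈ cyc T u ⊓ perp C (cyc T v)))
    have hb0 : b = 0 := (Submodule.mem_bot F).1 (hBi ▸ (⟨hb, fun w hw => by
      have h0 := hxo w (Submodule.mem_sup_left hw)
      rwa [C.form_add_left, hA a ha w hw, zero_add] at h0⟩ : b ∈ cyc T v ⊓ perp C (cyc T u)))
    rw [ha0, hb0, add_zero]
  · have h1 := Submodule.finrank_sup_add_finrank_inf_eq (cyc T u) (cyc T v)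
    rw [hAB, finrank_bot, add_zero, finrank_cyc hgm hg hgu hu0, finrank_cyc hhm hh hhv hv0, hdeg g hg hgd,
      hdeg h hh hhd] at h1
    omega

/-- splitting along coprime polynomials -/
theorem split {P Q : F[X]} (hco : IsCoprime P Q) (hPQ : aeval T (P * Q) = 0) {W : Submodule F (Fin n → F)}
    (hW : Inv T W) :
    W = (W ⊓ LinearMap.ker (aeval T P)) ⊔ (W ⊓ LinearMap.ker (aeval T Q)) ∧
      Module.finrank F W = Module.finrank F (W ⊓ LinearMap.ker (aeval T P) : Submodule F (Fin n → F)) +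
        Module.finrank F (W ⊓ LinearMap.ker (aeval T Q) : Submodule F (Fin n → F)) := by
  have hdis := disjoint_ker_aeval_of_isCoprime T hco
  have he : W = (W ⊓ LinearMap.ker (aeval T P)) ⊔ (W ⊓ LinearMap.ker (aeval T Q)) := by
    refine le_antisymm (fun u hu => ?_) (sup_le inf_le_left inf_le_left)
    obtain ⟨a, b, hab⟩ := hco
    have h1 := congrArg (fun f => aeval T f u) hab
    simp only [map_add, map_one, LinearMap.add_apply, Module.End.one_apply] at h1
    rw [← h1, add_comm]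
    refine Submodule.add_mem_sup ⟨aeval_mem_of_invariant T hW _ hu, LinearMap.mem_ker.2 ?_⟩
      ⟨aeval_mem_of_invariant T hW _ hu, LinearMap.mem_ker.2 ?_⟩
    · rw [← Module.End.mul_apply, ← map_mul, show P * (b * Q) = b * (P * Q) by ring, map_mul, hPQ, mul_zero]; rfl
    · rw [← Module.End.mul_apply, ← map_mul, show Q * (a * P) = a * (P * Q) by ring, map_mul, hPQ, mul_zero]; rfl
  refine ⟨he, ?_⟩
  have h := Submodule.finrank_sup_add_finrank_inf_eq (W ⊓ LinearMap.ker (aeval T P)) (W ⊓ LinearMap.ker (aeval T Q))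
  rw [(hdis.mono inf_le_right inf_le_right).eq_bot, finrank_bot, add_zero, ← he] at h
  exact h

variable [Fintype F] [Fact p.Prime] [CharP F p] [Fact r.Prime]

/-- the fixed part and the moved part -/
theorem moved (hF : Fintype.card F = q ^ 2) (hrp : r ≠ p) (hI : Iso C T) (hT : T ^ r = 1) :
    (∀ u ∈ LinearMap.ker (aeval T (X - Polynomial.C (1 : F))), T u = (1 : F) • u) ∧
      (∀ u ∈ LinearMap.ker (aeval T (X - Polynomial.C (1 : F))), ∀ v ∈ LinearMap.ker (aeval T (cyclotomic r F)),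
        C.form u v = 0) ∧
      (∀ W, Inv T W → Module.finrank F W =
        Module.finrank F (W ⊓ LinearMap.ker (aeval T (X - Polynomial.C (1 : F))) : Submodule F (Fin n → F)) +
        Module.finrank F (W ⊓ LinearMap.ker (aeval T (cyclotomic r F)) : Submodule F (Fin n → F))) ∧
      ∀ W, Inv T W → Nd C W → Nd C (W ⊓ LinearMap.ker (aeval T (X - Polynomial.C (1 : F)))) ∧
        Nd C (W ⊓ LinearMap.ker (aeval T (cyclotomic r F))) := by
  have hco : IsCoprime (X - Polynomial.C (1 : F)) (cyclotomic r F) := by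
    rw [(irreducible_X_sub_C (1 : F)).coprime_iff_not_dvd, dvd_iff_isRoot, IsRoot, eval_one_cyclotomic_prime]
    exact natCast_ne_zero_of_ne (p := p) hrp
  have hPQ : aeval T ((X - Polynomial.C (1 : F)) * cyclotomic r F) = 0 := by
    rw [map_one, mul_comm, cyclotomic_prime_mul_X_sub_one, map_sub, map_pow, aeval_X, map_one, hT, sub_self]
  have hass : Associated (X - Polynomial.C (1 : F)) (dualPoly C (X - Polynomial.C (1 : F))) := by
    refine self_dual hF (irreducible_X_sub_C 1) (by rw [natDegree_X_sub_C]; exact odd_one) ?_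
    have h : AdjoinRoot.root (X - Polynomial.C (1 : F)) = 1 := by
      have h0 := AdjoinRoot.mk_self (f := X - Polynomial.C (1 : F))
      rwa [map_sub, AdjoinRoot.mk_X, AdjoinRoot.mk_C, map_one, sub_eq_zero] at h0
    rw [h, one_pow]
  have horth : ∀ u ∈ LinearMap.ker (aeval T (X - Polynomial.C (1 : F))), ∀ v ∈ LinearMap.ker (aeval T (cyclotomic r F)),
      C.form u v = 0 := fun u hu v hv =>
    form_eq_zero_of_coprime hI (hco.symm.of_isCoprime_of_dvd_right hass.symm.dvd) (LinearMap.mem_ker.1 hu)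
      (LinearMap.mem_ker.1 hv)
  refine ⟨fun u hu => ?_, horth, fun W hW => (split hco hPQ hW).2, fun W hW hnd => ?_⟩
  · rw [LinearMap.mem_ker, map_sub, aeval_X, aeval_C, map_one, LinearMap.sub_apply, Module.End.one_apply,
      sub_eq_zero] at hu
    rw [hu, one_smul]
  · have he := (split hco hPQ hW).1
    constructor
    · intro u hu huo
      refine hnd u hu.1 fun v hv => ?_
      rw [he] at hv
      obtain ⟨a, ha, b, hb, rfl⟩ := Submodule.mem_sup.1 hv
      rw [C.form_add_right, huo a ha, horth u hu.2 b hb.2, add_zero]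
    · intro u hu huo
      refine hnd u hu.1 fun v hv => ?_
      rw [he] at hv
      obtain ⟨a, ha, b, hb, rfl⟩ := Submodule.mem_sup.1 hv
      rw [C.form_add_right, huo b hb, C.form_swap_zero (horth a ha.2 u hu.2), zero_add]

/-- the block length and block steps -/
theorem moved_step (hF : Fintype.card F = q ^ 2) (hrp : r ≠ p) (hr2 : r ≠ 2) (hI : Iso C T) {i b c : ℕ}
    (hi : i = orderOf (q : ZMod r)) (hb : b = if Even i then i / 2 else i) (hc : c = if i % 4 = 2 then b else 2 * b) :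
    0 < b ∧ 0 < c ∧ ∀ S ≤ LinearMap.ker (aeval T (cyclotomic r F)), Inv T S → Nd C S → S ≠ ⊥ →
      ∃ W ≤ S, Inv T W ∧ Nd C W ∧ Module.finrank F W = c := by
  obtain ⟨hbo, hdeg⟩ := factor_degree' hF hrp hi hb
  have hbpos : 0 < b := hbo ▸ order_pos (p := p) hrp
  refine ⟨hbpos, by rw [hc]; split_ifs <;> omega, fun S hS hSi hnd hne => ?_⟩
  by_cases h4 : i % 4 = 2
  · rw [hc, if_pos h4]
    exact nd_step_selfdual hF hI (cyclotomic_squarefree' (p := p) hrp) hdeg
      (fun g hg _ hgd => (self_dual_factor hF hrp hi hb h4 hg hgd).2.2) hSi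
      (fun u hu => LinearMap.mem_ker.1 (hS hu)) hnd hne
  · rw [hc, if_neg h4]
    exact nd_step_pair hI (cyclotomic_squarefree' (p := p) hrp) hdeg
      (fun g hg hgm hgd => not_self_dual hF hrp hr2 hi h4 hg hgm hgd) hSi
      (fun u hu => LinearMap.mem_ker.1 (hS hu)) hnd hne

/-- nondegenerate invariant subspaces -/
theorem nd_invariant (hF : Fintype.card F = q ^ 2) (hrp : r ≠ p) (hr2 : r ≠ 2) (hI : Iso C T) (hT : T ^ r = 1)
    {i b c : ℕ} (hi : i = orderOf (q : ZMod r)) (hb : b = if Even i then i / 2 else i)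
    (hc : c = if i % 4 = 2 then b else 2 * b) :
    ∃ e K, n = e + K * c ∧ e = Module.finrank F (LinearMap.ker (aeval T (X - Polynomial.C (1 : F)))) ∧
      (∀ a j, a ≤ e → j ≤ K → ∃ W, Inv T W ∧ Nd C W ∧ Module.finrank F W = a + j * c) ∧
      ∀ W, Inv T W → Nd C W → ∃ a j, a ≤ e ∧ Module.finrank F W = a + j * c := by
  obtain ⟨hfix, horth, hsplit, hnd⟩ := moved hF hrp hI hT
  obtain ⟨-, hcpos, hstep⟩ := moved_step hF hrp hr2 hI hi hb hc
  obtain ⟨E, hE⟩ : ∃ E, E = LinearMap.ker (aeval T (X - Polynomial.C (1 : F))) := ⟨_, rfl⟩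
  obtain ⟨M, hM⟩ : ∃ M, M = LinearMap.ker (aeval T (cyclotomic r F)) := ⟨_, rfl⟩
  rw [← hE, ← hM] at horth hsplit hnd
  rw [← hE] at hfix ⊢
  rw [← hM] at hstep
  have hMi : Inv T M := hM ▸ ker_inv T _
  have htop := hnd ⊤ (inv_top T) nd_top
  rw [top_inf_eq, top_inf_eq] at htop
  obtain ⟨K, hK, hblocks⟩ := block_chain hI hcpos hstep le_rfl hMi htop.2
  have hn := hsplit ⊤ (inv_top T)
  rw [finrank_top, Module.finrank_fin_fun, top_inf_eq, top_inf_eq, hK] at hn
  refine ⟨Module.finrank F E, K, hn, rfl, fun a j ha hj => ?_, fun W hW hWnd => ?_⟩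
  · obtain ⟨A, hAE, hA, hAnd, hAf⟩ := scalar_nd hF hfix htop.1 ha
    obtain ⟨B, hBM, hB, hBnd, hBf⟩ := hblocks j hj
    have ho : B ≤ perp C A := fun v hv u hu => C.form_swap_zero (horth u (hAE hu) v (hBM hv))
    exact ⟨A ⊔ B, inv_sup hA hB, nd_sup hAnd hBnd ho, by rw [finrank_sup_perp hAnd ho, hAf, hBf]⟩
  · obtain ⟨k, hk, -⟩ := block_chain hI hcpos hstep (inf_le_right : W ⊓ M ≤ M) (inv_inf hW hMi) (hnd W hW hWnd).2
    exact ⟨_, k, Submodule.finrank_mono inf_le_right, by rw [hsplit W hW, hk]⟩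

/-- totally isotropic invariant subspaces -/
theorem sing_invariant (hF : Fintype.card F = q ^ 2) (hrp : r ≠ p) (hr2 : r ≠ 2) (hI : Iso C T) (hT : T ^ r = 1)
    {i b c : ℕ} (hi : i = orderOf (q : ZMod r)) (hb : b = if Even i then i / 2 else i)
    (hc : c = if i % 4 = 2 then b else 2 * b) :
    ∃ e K, n = e + K * c ∧ e = Module.finrank F (LinearMap.ker (aeval T (X - Polynomial.C (1 : F)))) ∧
      (∀ a j, 2 * a ≤ e → (j = 0 ∨ if i % 4 = 2 then 2 * j + (r - 1) / b ≤ K + 1 else j ≤ K) →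
        ∃ W, Inv T W ∧ Sing C W ∧ Module.finrank F W = a + j * b) ∧
      ∀ W, Inv T W → Sing C W → ∃ a j, 2 * a ≤ e ∧ Module.finrank F W = a + j * b := by
  obtain ⟨hfix, horth, hsplit, hnd⟩ := moved hF hrp hI hT
  obtain ⟨hbpos, hcpos, hstep⟩ := moved_step hF hrp hr2 hI hi hb hc
  obtain ⟨hbo, hdeg⟩ := factor_degree' hF hrp hi hb
  have hsq := cyclotomic_squarefree' (F := F) (p := p) hrp
  obtain ⟨E, hE⟩ : ∃ E, E = LinearMap.ker (aeval T (X - Polynomial.C (1 : F))) := ⟨_, rfl⟩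
  obtain ⟨M, hM⟩ : ∃ M, M = LinearMap.ker (aeval T (cyclotomic r F)) := ⟨_, rfl⟩
  rw [← hE, ← hM] at horth hsplit hnd
  rw [← hE] at hfix ⊢
  rw [← hM] at hstep
  have hMi : Inv T M := hM ▸ ker_inv T _
  have htop := hnd ⊤ (inv_top T) nd_top
  rw [top_inf_eq, top_inf_eq] at htop
  obtain ⟨K, hK, -⟩ := block_chain hI hcpos hstep le_rfl hMi htop.2
  have hn := hsplit ⊤ (inv_top T)
  rw [finrank_top, Module.finrank_fin_fun, top_inf_eq, top_inf_eq, hK] at hn
  have hker : ∀ u ∈ M, aeval T (cyclotomic r F) u = 0 := fun u hu => LinearMap.mem_ker.1 (hM ▸ hu)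
  refine ⟨Module.finrank F E, K, hn, rfl, fun a j ha hj => ?_, fun W hW hWs => ?_⟩
  · obtain ⟨A, hAE, hA, hAs, hAf⟩ := scalar_sing hF hfix htop.1 ha
    have hss : ∀ W, Inv T W → ∃ Q, Inv T Q ∧ IsCompl W Q := fun W hW =>
      exists_invariant_complement T (P := (X ^ r - Polynomial.C (1 : F))) (separable_X_pow_sub_C _
        (natCast_ne_zero_of_ne (p := p) hrp) one_ne_zero).squarefree
        (by rw [map_sub, map_pow, aeval_X, aeval_C, map_one, hT, sub_self]) W hW
    obtain ⟨B, hBM, hB, hBs, hBf⟩ : ∃ B ≤ M, Inv T B ∧ Sing C B ∧ Module.finrank F B = j * b := by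
      by_cases h4 : i % 4 = 2
      · rw [if_pos h4] at hj
        rw [if_pos h4] at hc
        subst hc
        refine sing_chain hI hss hMi (w₀ := c) (c₀ := (r - 1) / c * c) (fun D hD hDi hlt => ?_) j ?_
        · obtain ⟨g, hg, hgd, hlt'⟩ := exists_large_component T hsq hdeg (t := (r - 1) / c) (by
            have hdvd : c ∣ r - 1 := hbo ▸ orderOf_dvd_of_pow_eq_one
              (ZMod.pow_card_sub_one_eq_one (card_ne_zero_zmod (p := p) hrp))
            rw [natDegree_cyclotomic, Nat.totient_prime Fact.out, Nat.div_mul_cancel hdvd])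
            hDi (fun u hu => hker u (hD hu)) (m := c) hlt hbpos
          have hlc : g.leadingCoeff ≠ 0 := leadingCoeff_ne_zero.2 hg.ne_zero
          have hass : Associated g (g * Polynomial.C g.leadingCoeff⁻¹) :=
            associated_mul_unit_right _ _ (isUnit_C.2 (IsUnit.mk0 _ (inv_ne_zero hlc)))
          obtain ⟨g', hg'⟩ : ∃ g', g' = g * Polynomial.C g.leadingCoeff⁻¹ := ⟨_, rfl⟩
          rw [← hg'] at hass
          have hgi := hass.irreducible hg
          have hgd' := hass.symm.dvd.trans hgd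
          obtain ⟨hodd, hroot, -⟩ := self_dual_factor (C := C) hF hrp hi hb h4 hgi hgd'
          obtain ⟨W, hWD, hW, hWs, hWf⟩ := exists_sing_cyclic hF hI (hg' ▸ monic_mul_leadingCoeff_inv hg.ne_zero) hgi
            hodd hroot (inv_inf hDi (ker_inv T g))
            (fun u hu => aeval_of_dvd hass.dvd (LinearMap.mem_ker.1 hu.2)) (by rw [hdeg g' hgi hgd']; exact hlt')
          exact ⟨W, hWD.trans inf_le_left, hW, hWs, hWf.trans (hdeg g' hgi hgd')⟩
        · rcases j with _ | j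
          · exact Or.inl rfl
          · refine Or.inr ?_
            have hj' := hj.resolve_left (Nat.succ_ne_zero j)
            rw [hK, Nat.add_sub_cancel, mul_right_comm, ← add_mul]
            exact Nat.mul_lt_mul_of_pos_right (by omega) hbpos
      · rw [if_neg h4] at hj
        rw [if_neg h4] at hc
        subst hc
        refine sing_chain hI hss hMi (w₀ := b) (c₀ := 0) (fun D hD hDi hlt => ?_) j ?_
        · obtain ⟨g, hg, hgm, hgd, u, hu, hu0, hgu⟩ := exists_component hsq hDi (fun u hu => hker u (hD hu))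
            (fun h : D = ⊥ => by rw [h, finrank_bot] at hlt; exact lt_irrefl _ hlt)
          refine ⟨cyc T u, cyc_le hDi hu, cyc_inv u, fun x hx y hy => ?_, by rw [finrank_cyc hgm hg hgu hu0, hdeg g hg hgd]⟩
          exact sing_component hI hg (not_self_dual hF hrp hr2 hi h4 hg hgm hgd) x (cyc_le_ker hgu hx) y
            (cyc_le_ker hgu hy)
        · rcases j with _ | j
          · exact Or.inl rfl
          · refine Or.inr ?_
            have hj' := hj.resolve_left (Nat.succ_ne_zero j)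
            rw [hK, Nat.add_sub_cancel, add_zero]
            calc 2 * b * j = j * (2 * b) := mul_comm _ _
              _ < K * (2 * b) := Nat.mul_lt_mul_of_pos_right (by omega) (by omega)
    have ho : B ≤ perp C A := fun v hv u hu => C.form_swap_zero (horth u (hAE hu) v (hBM hv))
    refine ⟨A ⊔ B, inv_sup hA hB, sing_sup hAs hBs ho, ?_⟩
    have h1 := Submodule.finrank_sup_add_finrank_inf_eq A B
    have hd : A ⊓ B = ⊥ := le_bot_iff.1 fun u hu => (Submodule.mem_bot F).2
      (htop.1 u (hAE hu.1) fun v hv => C.form_swap_zero (horth v hv u (hBM hu.2)))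
    rw [hd, finrank_bot, add_zero, hAf, hBf] at h1
    exact h1
  · obtain ⟨k, hk⟩ : b ∣ Module.finrank F (W ⊓ M : Submodule F (Fin n → F)) := by
      refine (exists_chain_invariant_pair (T.restrict (inv_inf hW hMi)) (LinearMap.ext fun u => Subtype.ext ?_) hsq
        hdeg).1
      exact (restrict_aeval_coe T (inv_inf hW hMi) _ u).trans (hker _ u.2.2)
    refine ⟨_, k, sing_in_nd htop.1 inf_le_right (fun u hu v hv => hWs u hu.1 v hv.1), ?_⟩
    rw [hsplit W hW, hk, mul_comm b k]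

/-- a prime power which is a scalar without root -/
theorem nonpower_sub (hF : Fintype.card F = q ^ 2) (hr2 : r ≠ 2) (hI : Iso C T) (hrF : (r : F) ≠ 0) {z : F}
    (hT : T ^ r = z • LinearMap.id) (hz : ∀ l : F, l ^ r ≠ z) (hzn : z ^ (q + 1) = 1) (hrq : r ∣ q + 1) :
    (∀ W, Inv T W → r ∣ Module.finrank F W) ∧
      (∀ j, 2 * (j * r) ≤ n → ∃ W, Inv T W ∧ Sing C W ∧ Module.finrank F W = j * r) ∧
      ∀ j, j * r ≤ n → ∃ W, Inv T W ∧ Nd C W ∧ Module.finrank F W = j * r := by
  have hr : r.Prime := Fact.out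
  obtain ⟨g, hgdef⟩ : ∃ g, g = (X ^ r - Polynomial.C z : F[X]) := ⟨_, rfl⟩
  have hg : Irreducible g := hgdef ▸ X_pow_sub_C_irreducible_of_prime hr hz
  have hgm : g.Monic := hgdef ▸ monic_X_pow_sub_C z hr.ne_zero
  have hdeg : g.natDegree = r := hgdef ▸ natDegree_X_pow_sub_C
  have hker : ∀ u, aeval T g u = 0 := fun u => by
    rw [hgdef, map_sub, map_pow, aeval_X, aeval_C, hT]
    simp [Module.algebraMap_end_apply]
  have hodd : Odd g.natDegree := hdeg ▸ hr.odd_of_ne_two hr2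
  have hroot : AdjoinRoot.root g ^ (q ^ g.natDegree + 1) = 1 := by
    have h1 : AdjoinRoot.root g ^ r = AdjoinRoot.of g z := by
      have h0 := AdjoinRoot.mk_self (f := g)
      conv_lhs at h0 => arg 2; rw [hgdef]
      rwa [map_sub, map_pow, AdjoinRoot.mk_X, AdjoinRoot.mk_C, sub_eq_zero] at h0
    obtain ⟨t, ht⟩ : r * (q + 1) ∣ q ^ r + 1 := by
      rw [← Int.natCast_dvd_natCast]
      push_cast
      have h2 : (r : ℤ) ∣ (q : ℤ) - -1 := by rw [sub_neg_eq_add]; exact_mod_cast hrq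
      have h3 := geom_sum₂_mul (q : ℤ) (-1) r
      rw [(hr.odd_of_ne_two hr2).neg_one_pow, sub_neg_eq_add, sub_neg_eq_add] at h3
      rw [← h3]
      exact mul_dvd_mul_right (dvd_geom_sum₂_self h2) _
    rw [hdeg, ht, pow_mul, pow_mul, h1, ← map_pow (AdjoinRoot.of g), hzn, map_one, one_pow]
  have hgd : ∀ h, Irreducible h → h ∣ g → h.natDegree = r := fun h hh hhd => by
    rw [natDegree_eq_of_degree_eq (degree_eq_degree_of_associated (hh.associated_of_dvd hg hhd)), hdeg]
  have hdim : ∀ W, Inv T W → r ∣ Module.finrank F W := fun W hW => (exists_chain_invariant_pair (T.restrict hW)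
    (LinearMap.ext fun u => Subtype.ext ((restrict_aeval_coe T hW g u).trans (hker u))) hg.squarefree hgd).1
  refine ⟨hdim, fun j hj => ?_, fun j hj => ?_⟩
  · obtain ⟨W, -, hW, hWs, hWf⟩ := sing_chain hI
      (fun W hW => exists_invariant_complement T hg.squarefree (LinearMap.ext hker) W hW)
      (inv_top T) (w₀ := r) (c₀ := r) (fun D hD hDi hlt => by
        obtain ⟨W, hWD, hW, hWs, hWf⟩ := exists_sing_cyclic hF hI hgm hg hodd hroot hDi (fun u _ => hker u)
          (by rw [hdeg]; exact hlt)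
        exact ⟨W, hWD, hW, hWs, hWf.trans hdeg⟩) j (by
        rcases j with _ | j
        · exact Or.inl rfl
        · refine Or.inr (lt_of_lt_of_le ?_ ((hj.trans (le_of_eq (Module.finrank_fin_fun F).symm)).trans
            (le_of_eq (finrank_top F (Fin n → F)).symm)))
          rw [Nat.add_sub_cancel]
          have := hr.pos
          have : 2 * ((j + 1) * r) = 2 * r * j + r + r := by ring
          omega)
    exact ⟨W, hW, hWs, hWf⟩
  · obtain ⟨K, hK, hex⟩ := block_chain hI hr.pos (S₀ := ⊤) (fun S _ hS hnd hne => by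
      refine nd_step_selfdual hF hI hg.squarefree hgd (fun h hh hhm hhd => ?_) hS (fun u _ => hker u) hnd hne
      rw [eq_of_monic_of_associated hhm hgm (hh.associated_of_dvd hg hhd)]
      exact self_dual hF hg hodd hroot) le_rfl (inv_top T) nd_top
    rw [finrank_top, Module.finrank_fin_fun] at hK
    obtain ⟨W, -, hW⟩ := hex j (Nat.le_of_mul_le_mul_right (hK ▸ hj) hr.pos)
    exact ⟨W, hW⟩

end CfsgLib.Perm.Elusive.HermIso
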