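import Mathlib
import Cfsg.Agent.Lib.Perm.Elusive.HermIso.Classes
import Cfsg.Agent.Lib.Classical.HermTori

/-!
# Orthogonal sums of isometries
-/

set_option autoImplicit false
set_option linter.all false

namespace CfsgLib.Perm.Elusive.HermIso

open Matrix Polynomial CfsgLib.SU CfsgLib.Classical CfsgLib.Classical.HermStab

variable {F : Type*} [Field F] {q : ℕ} {C : UCtx F q} {k m n : ℕ}

/-- the first coordinates as a linear map -/
def lcL (k m : ℕ) (F : Type*) [Field F] : (Fin (k + m) → F) →ₗ[F] (Fin k → F) := LinearMap.funLeft F F (Fin.castAdd m)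

/-- the last coordinates as a linear map -/
def rcL (k m : ℕ) (F : Type*) [Field F] : (Fin (k + m) → F) →ₗ[F] (Fin m → F) := LinearMap.funLeft F F (Fin.natAdd k)

theorem eq_zero_of_parts {x : Fin (k + m) → F} (h1 : lcL k m F x = 0) (h2 : rcL k m F x = 0) : x = 0 := by
  funext i
  induction i using Fin.addCases with
  | left i => exact congrFun h1 i
  | right i => exact congrFun h2 i

theorem form_parts (x y : Fin (k + m) → F) :
    C.form x y = C.form (lcL k m F x) (lcL k m F y) + C.form (rcL k m F x) (rcL k m F y) := HermStab.form_split C x y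

variable {A : Matrix (Fin k) (Fin k) F} {B : Matrix (Fin m) (Fin m) F}

theorem aeval_parts (P : F[X]) (x : Fin (k + m) → F) :
    lcL k m F (aeval (Matrix.toLin' (blockMat A B)) P x) = aeval (Matrix.toLin' A) P (lcL k m F x) ∧
      rcL k m F (aeval (Matrix.toLin' (blockMat A B)) P x) = aeval (Matrix.toLin' B) P (rcL k m F x) :=
  ⟨aeval_intertwine (fun u => by rw [Matrix.toLin'_apply, Matrix.toLin'_apply]; exact (blockMat_mulVec A B u).1) P x,
    aeval_intertwine (fun u => by rw [Matrix.toLin'_apply, Matrix.toLin'_apply]; exact (blockMat_mulVec A B u).2) P x⟩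

theorem block_kill {P : F[X]} (hA : aeval (Matrix.toLin' A) P = 0) (hB : aeval (Matrix.toLin' B) P = 0) :
    aeval (Matrix.toLin' (blockMat A B)) P = 0 :=
  LinearMap.ext fun x => eq_zero_of_parts (by rw [(aeval_parts P x).1, hA]; rfl) (by rw [(aeval_parts P x).2, hB]; rfl)

theorem block_iso (hA : Iso C (Matrix.toLin' A)) (hB : Iso C (Matrix.toLin' B)) :
    Iso C (Matrix.toLin' (blockMat A B)) := fun u v => by
  rw [Matrix.toLin'_apply, Matrix.toLin'_apply]
  exact HermTori.form_blockMat C (fun x y => by simpa only [Matrix.toLin'_apply] using hA x y)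
    (fun x y => by simpa only [Matrix.toLin'_apply] using hB x y) u v

theorem finrank_ker_block (P : F[X]) :
    Module.finrank F (LinearMap.ker (aeval (Matrix.toLin' (blockMat A B)) P)) =
      Module.finrank F (LinearMap.ker (aeval (Matrix.toLin' A) P)) +
        Module.finrank F (LinearMap.ker (aeval (Matrix.toLin' B) P)) := by
  obtain ⟨K, hK⟩ : ∃ K, K = LinearMap.ker (aeval (Matrix.toLin' (blockMat A B)) P) := ⟨_, rfl⟩
  have hKm : ∀ x ∈ K, aeval (Matrix.toLin' (blockMat A B)) P x = 0 := fun x hx => LinearMap.mem_ker.1 (hK ▸ hx)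
  have h1 : ∀ x ∈ K, lcL k m F x ∈ LinearMap.ker (aeval (Matrix.toLin' A) P) := fun x hx => by
    rw [LinearMap.mem_ker, ← (aeval_parts (B := B) P x).1, hKm x hx, map_zero]
  have h2 : ∀ x ∈ K, rcL k m F x ∈ LinearMap.ker (aeval (Matrix.toLin' B) P) := fun x hx => by
    rw [LinearMap.mem_ker, ← (aeval_parts (A := A) P x).2, hKm x hx, map_zero]
  obtain ⟨ψ, hψ⟩ : ∃ ψ : K →ₗ[F] (LinearMap.ker (aeval (Matrix.toLin' A) P)) × (LinearMap.ker (aeval (Matrix.toLin' B) P)),
      ∀ x, ((ψ x).1 : Fin k → F) = lcL k m F x ∧ ((ψ x).2 : Fin m → F) = rcL k m F x :=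
    ⟨((lcL k m F).comp K.subtype).codRestrict _ (fun x => h1 x x.2) |>.prod
      (((rcL k m F).comp K.subtype).codRestrict _ (fun x => h2 x x.2)), fun x => ⟨rfl, rfl⟩⟩
  have hbij : Function.Bijective ψ := by
    refine ⟨(injective_iff_map_eq_zero ψ).2 fun x hx => Subtype.ext (eq_zero_of_parts ?_ ?_), fun ⟨a, b⟩ => ?_⟩
    · rw [← (hψ x).1, hx]; rfl
    · rw [← (hψ x).2, hx]; rfl
    · have hla : lcL k m F (Fin.append (a : Fin k → F) (b : Fin m → F)) = a := funext fun i => Fin.append_left _ _ i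
      have hrb : rcL k m F (Fin.append (a : Fin k → F) (b : Fin m → F)) = b := funext fun i => Fin.append_right _ _ i
      refine ⟨⟨Fin.append a b, hK ▸ LinearMap.mem_ker.2 (eq_zero_of_parts ?_ ?_)⟩,
        Prod.ext (Subtype.ext ((hψ _).1.trans hla)) (Subtype.ext ((hψ _).2.trans hrb))⟩
      · rw [(aeval_parts P _).1, hla]; exact LinearMap.mem_ker.1 a.2
      · rw [(aeval_parts P _).2, hrb]; exact LinearMap.mem_ker.1 b.2
  rw [← hK, (LinearEquiv.ofBijective ψ hbij).finrank_eq, Module.finrank_prod]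

/-- bound for the invariant totally isotropic subspaces -/
def Bd (C : UCtx F q) (M : Matrix (Fin n) (Fin n) F) (N : ℕ) : Prop :=
  ∀ W : Submodule F (Fin n → F), Inv (Matrix.toLin' M) W → Sing C W → 2 * Module.finrank F W ≤ N

theorem bd_block {P Q : F[X]} (hco : IsCoprime P Q) (hA : aeval (Matrix.toLin' A) P = 0)
    (hB : aeval (Matrix.toLin' B) Q = 0) {N N' : ℕ} (hN : Bd C A N) (hN' : Bd C B N') :
    Bd C (blockMat A B) (N + N') := by
  intro W hW hWs
  have hPQ : aeval (Matrix.toLin' (blockMat A B)) (P * Q) = 0 :=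
    block_kill (by rw [map_mul, hA, zero_mul]) (by rw [map_mul, hB, mul_zero])
  obtain ⟨W₁, hW₁⟩ : ∃ W₁, W₁ = W ⊓ LinearMap.ker (aeval (Matrix.toLin' (blockMat A B)) P) := ⟨_, rfl⟩
  obtain ⟨W₂, hW₂⟩ : ∃ W₂, W₂ = W ⊓ LinearMap.ker (aeval (Matrix.toLin' (blockMat A B)) Q) := ⟨_, rfl⟩
  have hsum := (split hco hPQ hW).2
  rw [← hW₁, ← hW₂] at hsum
  have hr : ∀ x ∈ W₁, rcL k m F x = 0 := fun x hx => by
    rw [hW₁] at hx
    have h0 : aeval (Matrix.toLin' B) P (rcL k m F x) = 0 := by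
      rw [← (aeval_parts (A := A) P x).2, LinearMap.mem_ker.1 hx.2, map_zero]
    exact Submodule.disjoint_def.1 (disjoint_ker_aeval_of_isCoprime (Matrix.toLin' B) hco) _ (LinearMap.mem_ker.2 h0)
      (LinearMap.mem_ker.2 (by rw [hB]; rfl))
  have hl : ∀ x ∈ W₂, lcL k m F x = 0 := fun x hx => by
    rw [hW₂] at hx
    have h0 : aeval (Matrix.toLin' A) Q (lcL k m F x) = 0 := by
      rw [← (aeval_parts (B := B) Q x).1, LinearMap.mem_ker.1 hx.2, map_zero]
    exact Submodule.disjoint_def.1 (disjoint_ker_aeval_of_isCoprime (Matrix.toLin' A) hco) _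
      (LinearMap.mem_ker.2 (by rw [hA]; rfl)) (LinearMap.mem_ker.2 h0)
  have hi₁ : Inv (Matrix.toLin' (blockMat A B)) W₁ := hW₁ ▸ inv_inf hW (ker_inv _ P)
  have hi₂ : Inv (Matrix.toLin' (blockMat A B)) W₂ := hW₂ ▸ inv_inf hW (ker_inv _ Q)
  have e₁ : Module.finrank F (W₁.map (lcL k m F)) = Module.finrank F W₁ := by
    rw [← LinearMap.range_domRestrict]
    exact LinearMap.finrank_range_of_inj ((injective_iff_map_eq_zero _).2 fun x hx =>
      Subtype.ext (eq_zero_of_parts hx (hr x x.2)))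
  have e₂ : Module.finrank F (W₂.map (rcL k m F)) = Module.finrank F W₂ := by
    rw [← LinearMap.range_domRestrict]
    exact LinearMap.finrank_range_of_inj ((injective_iff_map_eq_zero _).2 fun x hx =>
      Subtype.ext (eq_zero_of_parts (hl x x.2) hx))
  have b₁ := hN (W₁.map (lcL k m F)) (by
    rintro _ ⟨x, hx, rfl⟩
    refine ⟨_, hi₁ x hx, ?_⟩
    rw [Matrix.toLin'_apply, Matrix.toLin'_apply]
    exact (blockMat_mulVec A B x).1) (by
    rintro _ ⟨x, hx, rfl⟩ _ ⟨y, hy, rfl⟩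
    have h := hWs x (hW₁ ▸ hx : x ∈ W ⊓ _).1 y (hW₁ ▸ hy : y ∈ W ⊓ _).1
    rwa [form_parts, hr x hx, C.form_zero_left, add_zero] at h)
  have b₂ := hN' (W₂.map (rcL k m F)) (by
    rintro _ ⟨x, hx, rfl⟩
    refine ⟨_, hi₂ x hx, ?_⟩
    rw [Matrix.toLin'_apply, Matrix.toLin'_apply]
    exact (blockMat_mulVec A B x).2) (by
    rintro _ ⟨x, hx, rfl⟩ _ ⟨y, hy, rfl⟩
    have h := hWs x (hW₂ ▸ hx : x ∈ W ⊓ _).1 y (hW₂ ▸ hy : y ∈ W ⊓ _).1
    rwa [form_parts, hl x hx, C.form_zero_left, zero_add] at h)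
  rw [e₁] at b₁
  rw [e₂] at b₂
  omega

/-- scalar blocks -/
theorem scalar_block (n : ℕ) {w : F} (hw : w * C.bar w = 1) :
    Iso C (Matrix.toLin' (w • (1 : Matrix (Fin n) (Fin n) F))) ∧
      aeval (Matrix.toLin' (w • (1 : Matrix (Fin n) (Fin n) F))) (X - Polynomial.C w) = 0 := by
  refine ⟨fun u v => ?_, ?_⟩
  · simp only [Matrix.toLin'_apply, Matrix.smul_mulVec, Matrix.one_mulVec, C.form_smul_left, C.form_smul_right]
    rw [← mul_assoc, hw, one_mul]
  · rw [map_sub, aeval_X, aeval_C, map_smul, Matrix.toLin'_one, sub_eq_zero]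
    exact LinearMap.ext fun u => by simp [Module.algebraMap_end_apply]

theorem bd_scalar (M : Matrix (Fin n) (Fin n) F) : Bd C M (2 * (n / 2)) := fun W _ hWs => by
  have := sing_two_mul_le hWs
  omega

/-- copies of a block -/
theorem exists_copies {c : ℕ} (A : Matrix (Fin c) (Fin c) F) (hA : Iso C (Matrix.toLin' A)) :
    ∀ t : ℕ, ∃ M : Matrix (Fin (t * c)) (Fin (t * c)) F, Iso C (Matrix.toLin' M) ∧ M.det = A.det ^ t ∧
      ∀ P : F[X], aeval (Matrix.toLin' A) P = 0 → aeval (Matrix.toLin' M) P = 0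
  | 0 => by
    rw [Nat.zero_mul]
    exact ⟨1, fun u v => congrArg₂ C.form (Subsingleton.elim _ _) (Subsingleton.elim _ _), by simp, fun P _ => LinearMap.ext fun x => Subsingleton.elim _ _⟩
  | t + 1 => by
    obtain ⟨M, h1, h2, h3⟩ := exists_copies A hA t
    rw [Nat.succ_mul]
    exact ⟨blockMat M A, block_iso h1 hA, by rw [HermTori.det_blockMat, h2, pow_succ],
      fun P hP => block_kill (h3 P hP) hP⟩

/-- an isometry of determinant one as an element of the special unitary group -/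
theorem exists_su {r : ℕ} {M : Matrix (Fin n) (Fin n) F} (hM : Iso C (Matrix.toLin' M)) (hd : M.det = 1) {z : F}
    (hr : aeval (Matrix.toLin' M) (X ^ r - Polynomial.C z) = 0) :
    ∃ x ∈ Cfsg.SU n F q, (x : Matrix (Fin n) (Fin n) F) = M ∧
      ((x ^ r : Matrix.SpecialLinearGroup (Fin n) F) : Matrix (Fin n) (Fin n) F) = z • (1 : Matrix (Fin n) (Fin n) F) := by
  refine ⟨(C.mkSU M hd fun u v => by simpa only [Matrix.toLin'_apply] using hM u v).1,
    (C.mkSU M hd fun u v => by simpa only [Matrix.toLin'_apply] using hM u v).2, rfl, ?_⟩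
  rw [map_sub, map_pow, aeval_X, aeval_C, sub_eq_zero, ← Matrix.toLin'_pow] at hr
  rw [Matrix.SpecialLinearGroup.coe_pow]
  refine Matrix.toLin'.injective (hr.trans ?_)
  rw [map_smul, Matrix.toLin'_one]
  exact LinearMap.ext fun u => by simp [Module.algebraMap_end_apply]

end CfsgLib.Perm.Elusive.HermIso
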