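import Mathlib
import Cfsg.Agent.Lib.Perm.Elusive.HermIso.Space
import Cfsg.Agent.Lib.Classical.HermIsoCount
import Cfsg.Agent.Lib.Classical.HermStab

/-!
# Prime divisors of the numbers of subspaces of a unitary space
-/

set_option autoImplicit false
set_option linter.all false

namespace CfsgLib.Perm.Elusive.HermIso

open Matrix CfsgLib.SU CfsgLib.Classical CfsgLib.Classical.HermFrames

variable {F : Type*} [Field F] [Fintype F] {q : ℕ} {p : ℕ} [Fact p.Prime] [CharP F p] {r : ℕ} [Fact r.Prime]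

theorem q_prime_power (hF : Fintype.card F = q ^ 2) : ∃ a : ℕ, 0 < a ∧ q = p ^ a := by
  obtain ⟨k, hpp, hk⟩ := FiniteField.card F p
  rw [hF] at hk
  obtain ⟨f, -, hq⟩ := (Nat.dvd_prime_pow hpp).1 (hk ▸ dvd_pow_self q two_ne_zero)
  refine ⟨f, Nat.pos_of_ne_zero fun h0 => ?_, hq⟩
  have := two_le_q hF
  rw [h0, pow_zero] at hq
  omega

/-- a factor of the order formula divisible by `r` -/
theorem block_dvd {i c j : ℕ} (hrp : r ≠ p) (hr2 : r ≠ 2) (hF : Fintype.card F = q ^ 2) (hi : i = orderOf (q : ZMod r))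
    (hc : c = if i % 4 = 0 then i else if i % 4 = 2 then i / 2 else 2 * i)
    (h : (r : ℤ) ∣ (q : ℤ) ^ j - (-1) ^ j) : c ∣ j := by
  haveI : Fact (2 < r) := ⟨lt_of_le_of_ne (Fact.out : r.Prime).two_le (Ne.symm hr2)⟩
  have h1 : (q : ZMod r) ^ j = (-1) ^ j := by
    have h2 := (ZMod.intCast_zmod_eq_zero_iff_dvd _ r).2 h
    push_cast at h2
    exact sub_eq_zero.1 h2
  have hd : i ∣ 2 * j := hi ▸ orderOf_dvd_of_pow_eq_one (by
    rw [mul_comm, pow_mul, h1, ← pow_mul, mul_comm, pow_mul, neg_one_sq, one_pow])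
  rcases Nat.even_or_odd j with hj | hj
  · rw [hj.neg_one_pow, ← orderOf_dvd_iff_pow_eq_one, ← hi] at h1
    rw [hc]
    split_ifs with h0 h2
    · exact h1
    · exact (Nat.div_dvd_of_dvd (by omega)).trans h1
    · exact Nat.Coprime.mul_dvd_of_dvd_of_dvd (Nat.coprime_two_left.2 (Nat.odd_iff.2 (by omega))) hj.two_dvd h1
  · rw [hj.neg_one_pow] at h1
    have hnd : ¬ i ∣ j := fun h => by
      rw [hi, orderOf_dvd_iff_pow_eq_one, h1] at h
      exact ZMod.neg_one_ne_one h
    rcases Nat.even_or_odd i with ⟨w, hw⟩ | ho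
    · have hwj : w ∣ j := by
        obtain ⟨e, he⟩ := hd
        exact ⟨e, by rw [hw, ← two_mul, mul_assoc] at he; omega⟩
      have hwo : Odd w := hj.of_dvd_nat hwj
      obtain ⟨u, hu⟩ := hwo
      rw [hc, if_neg (by omega), if_pos (by omega), show i / 2 = w by omega]
      exact hwj
    · exact absurd ((Nat.Coprime.dvd_mul_left (ho.coprime_two_right)).1 hd) hnd

omit [Fact r.Prime] in
/-- divisors of the tail product -/
theorem tail_prime (hF : Fintype.card F = q ^ 2) (hr : r.Prime) {N A : ℕ}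
    (h : (r : ℤ) ∣ (q : ℤ) ^ N * ∏ i ∈ Finset.range A, ((q : ℤ) ^ (i + 1) - (-1) ^ (i + 1))) (hrp : r ≠ p) :
    ∃ i < A, (r : ℤ) ∣ (q : ℤ) ^ (i + 1) - (-1) ^ (i + 1) := by
  obtain ⟨a, -, hq⟩ := q_prime_power (F := F) (p := p) hF
  rcases (Nat.prime_iff_prime_int.1 hr).dvd_or_dvd h with h1 | h1
  · have h2 := (Nat.prime_iff_prime_int.1 hr).dvd_of_dvd_pow h1
    rw [Int.natCast_dvd_natCast, hq] at h2
    exact absurd ((Nat.prime_dvd_prime_iff_eq hr Fact.out).1 (hr.dvd_of_dvd_pow h2)) hrp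
  · obtain ⟨i, hi, hi'⟩ := ((Nat.prime_iff_prime_int.1 hr).dvd_finset_prod_iff _).1 h1
    exact ⟨i, Finset.mem_range.1 hi, hi'⟩

/-- primes dividing the number of totally isotropic subspaces -/
theorem iso_count_prime (C : UCtx F q) (hF : Fintype.card F = q ^ 2) {n m : ℕ} (hmn : 2 * m ≤ n)
    (hr : r ∣ Nat.card {W : Submodule F (Fin n → F) // Module.finrank F W = m ∧
      ∀ u ∈ W, ∀ v ∈ W, C.form u v = 0}) :
    r ≠ p ∧ (r ≠ 2 → ∀ i c : ℕ, i = orderOf (q : ZMod r) →
      c = (if i % 4 = 0 then i else if i % 4 = 2 then i / 2 else 2 * i) → ∃ t, n - 2 * m < t ∧ t ≤ n ∧ c ∣ t) := by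
  classical
  obtain ⟨s, rfl⟩ : ∃ s, n = 2 * m + s := ⟨n - 2 * m, by omega⟩
  obtain ⟨X, hX⟩ : ∃ X, X = Nat.card {W : Submodule F (Fin (2 * m + s) → F) // Module.finrank F W = m ∧
      ∀ u ∈ W, ∀ v ∈ W, C.form u v = 0} := ⟨_, rfl⟩
  rw [← hX] at hr
  obtain ⟨Y, hY⟩ : ∃ Y : ℤ, ((∏ i : Fin m, (Fintype.card F ^ m - Fintype.card F ^ (i : ℕ)) : ℕ) : ℤ) =
      (q : ℤ) ^ (m * (m - 1)) * Y := by
    refine ⟨∏ i ∈ Finset.range m, ((q : ℤ) ^ (2 * (m - i)) - 1), ?_⟩
    rw [Fin.prod_univ_eq_prod_range (fun i => Fintype.card F ^ m - Fintype.card F ^ i) m, Nat.cast_prod,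
      ← Finset.sum_range_id_mul_two m, Finset.sum_mul, ← Finset.prod_pow_eq_pow_sum, ← Finset.prod_mul_distrib]
    refine Finset.prod_congr rfl fun i hi => ?_
    rw [Finset.mem_range] at hi
    rw [hF, Nat.cast_sub (Nat.pow_le_pow_right (pow_pos (by have := two_le_q hF; omega) 2) hi.le), mul_sub, mul_one,
      ← pow_add, ← pow_mul, ← pow_mul, Nat.cast_pow, Nat.cast_pow, show i * 2 + 2 * (m - i) = 2 * m by omega,
      mul_comm 2 i]
  have h1 := HermIsoCount.frame_mul C hF m s (2 * m + s) rfl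
  rw [← HermIsoCount.card_subspaces C m (2 * m + s), ← hX, Nat.cast_mul, hY] at h1
  unfold HermIsoCount.guOrd at h1
  have he : (2 * m + s) * (2 * m + s - 1) / 2 = m * (m - 1) + m * (2 * (2 * m + s) - 3 * m) + s * (s - 1) / 2 := by
    have h2 : (2 * m + s) * (2 * m + s - 1) = (m * (m - 1) + m * (2 * (2 * m + s) - 3 * m)) * 2 + s * (s - 1) := by
      rw [show 2 * (2 * m + s) - 3 * m = m + 2 * s by omega]
      rcases m with _ | m
      · simp
      · rcases s with _ | s
        · rw [Nat.add_sub_cancel, show 2 * (m + 1) + 0 - 1 = 2 * m + 1 by omega]; ring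
        · rw [Nat.add_sub_cancel, Nat.add_sub_cancel, show 2 * (m + 1) + (s + 1) - 1 = 2 * m + s + 2 by omega]; ring
    rw [h2, add_comm, Nat.add_mul_div_right _ _ two_pos, add_comm]
  rw [he, pow_add, pow_add, show Finset.range (2 * m + s) = Finset.range (s + 2 * m) by rw [add_comm],
    Finset.prod_range_add] at h1
  have hq1 : (1 : ℤ) < q := by have := two_le_q hF; exact_mod_cast this
  have hP0 : ∏ i ∈ Finset.range s, ((q : ℤ) ^ (i + 1) - (-1) ^ (i + 1)) ≠ 0 := by
    refine Finset.prod_ne_zero_iff.2 fun i _ h0 => ?_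
    have h2 : (1 : ℤ) < (q : ℤ) ^ (i + 1) := one_lt_pow₀ hq1 (Nat.succ_ne_zero i)
    rcases neg_one_pow_eq_or ℤ (i + 1) with h | h <;> · rw [h] at h0; omega
  have h2 : (X : ℤ) * Y = ∏ k ∈ Finset.range (2 * m), ((q : ℤ) ^ (s + k + 1) - (-1) ^ (s + k + 1)) := by
    have hq0 : (q : ℤ) ≠ 0 := by omega
    refine mul_left_cancel₀ (mul_ne_zero (mul_ne_zero (mul_ne_zero (pow_ne_zero (m * (m - 1)) hq0)
      (pow_ne_zero (m * (2 * (2 * m + s) - 3 * m)) hq0)) (pow_ne_zero (s * (s - 1) / 2) hq0)) hP0) ?_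
    linear_combination h1
  have h3 : (r : ℤ) ∣ ∏ k ∈ Finset.range (2 * m), ((q : ℤ) ^ (s + k + 1) - (-1) ^ (s + k + 1)) :=
    h2 ▸ (Int.natCast_dvd_natCast.2 hr).mul_right Y
  have hr' : r.Prime := Fact.out
  obtain ⟨k, hk, hk'⟩ := ((Nat.prime_iff_prime_int.1 hr').dvd_finset_prod_iff _).1 h3
  rw [Finset.mem_range] at hk
  have hrp : r ≠ p := by
    intro h
    obtain ⟨a, ha, hq⟩ := q_prime_power (F := F) (p := p) hF
    have h4 : (r : ℤ) ∣ (q : ℤ) ^ (s + k + 1) := dvd_pow (by rw [Int.natCast_dvd_natCast, hq, h]; exact dvd_pow_self p ha.ne') (Nat.succ_ne_zero _)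
    have h5 := dvd_sub h4 hk'
    rw [sub_sub_cancel] at h5
    have h6 := Int.natAbs_dvd_natAbs.2 h5
    rw [Int.natAbs_natCast, Int.natAbs_pow, Int.natAbs_neg, Int.natAbs_one, one_pow] at h6
    exact hr'.not_dvd_one h6
  exact ⟨hrp, fun hr2 i c hi hc => ⟨s + k + 1, by omega, by omega, block_dvd (p := p) hrp hr2 hF hi hc hk'⟩⟩

/-- primes dividing the number of nondegenerate subspaces -/
theorem nd_count_prime (C : UCtx F q) (hF : Fintype.card F = q ^ 2) {n m : ℕ} (hmn : m ≤ n)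
    (hr : r ∣ Nat.card {W : Submodule F (Fin n → F) // Module.finrank F W = m ∧ Nd C W})
    (hrp : r ≠ p) (hr2 : r ≠ 2) {i c : ℕ} (hi : i = orderOf (q : ZMod r))
    (hc : c = if i % 4 = 0 then i else if i % 4 = 2 then i / 2 else 2 * i) : n % c < m := by
  classical
  by_contra hle
  push Not at hle
  obtain ⟨d, rfl⟩ : ∃ d, n = m + d := ⟨n - m, by omega⟩
  obtain ⟨Ω, hΩ⟩ : ∃ Ω : Set (Submodule F (Fin (m + d) → F)), Ω = {W : Submodule F (Fin (m + d) → F) | Module.finrank F W = m ∧ Nd C W} := ⟨_, rfl⟩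
  letI act : MulAction (Cfsg.GU (m + d) F q) (Submodule F (Fin (m + d) → F)) :=
    { smul := fun g W => W.map (Matrix.toLin' g.1.1)
      one_smul := fun W => by
        show W.map (Matrix.toLin' (1 : Matrix (Fin (m + d)) (Fin (m + d)) F)) = W
        rw [Matrix.toLin'_one, Submodule.map_id]
      mul_smul := fun g h W => by
        show W.map (Matrix.toLin' (g.1.1 * h.1.1)) = (W.map (Matrix.toLin' h.1.1)).map (Matrix.toLin' g.1.1)
        rw [Matrix.toLin'_mul, Submodule.map_comp] }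
  have hsmul : ∀ (g : Cfsg.GU (m + d) F q) (W : Submodule F (Fin (m + d) → F)), g • W = W.map (Matrix.toLin' g.1.1) :=
    fun g W => rfl
  have hcard : Nat.card {W : Submodule F (Fin (m + d) → F) // Module.finrank F W = m ∧ Nd C W} = Ω.ncard := by
    rw [hΩ]; exact Nat.card_coe_set_eq _
  rw [hcard] at hr
  rcases Ω.eq_empty_or_nonempty with h0 | ⟨W₀, hW₀⟩
  · -- the standard subspace is a member
    have hstd : HermStab.stdSub m d F ∈ Ω := by
      rw [hΩ]
      refine ⟨?_, fun u hu huo => C.eq_zero_of_form fun v => ?_⟩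
      · obtain ⟨e, he⟩ : ∃ e : HermStab.stdSub m d F →ₗ[F] (Fin m → F), ∀ x, e x = HermStab.lc (x : Fin (m + d) → F) :=
          ⟨(LinearMap.funLeft F F (Fin.castAdd d)).comp (HermStab.stdSub m d F).subtype, fun x => rfl⟩
        have hbij : Function.Bijective e := by
          refine ⟨(injective_iff_map_eq_zero e).2 fun x hx => Subtype.ext (funext fun j => ?_), fun g => ?_⟩
          · induction j using Fin.addCases with
            | left j => exact congrFun ((he x).symm.trans hx) j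
            | right j => exact congrFun (show HermStab.rc (x : Fin (m + d) → F) = 0 from x.2) j
          · exact ⟨⟨Fin.append g 0, HermStab.rc_append g 0⟩, (he _).trans (HermStab.lc_append g 0)⟩
        rw [(LinearEquiv.ofBijective e hbij).finrank_eq, Module.finrank_fin_fun]
      · have h := huo (Fin.append (HermStab.lc v) 0) (HermStab.rc_append _ 0)
        rw [HermStab.form_split C u, HermStab.lc_append, HermStab.rc_append, C.form_zero_right, add_zero] at h
        rw [HermStab.form_split C u, h, show HermStab.rc u = 0 from hu, C.form_zero_left, add_zero]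
    rw [h0] at hstd
    exact hstd
  have hmem : ∀ W ∈ Ω, Module.finrank F W = m ∧ Nd C W := fun W hW => by rw [hΩ] at hW; exact hW
  have horb : MulAction.orbit (Cfsg.GU (m + d) F q) W₀ = Ω := by
    refine Set.Subset.antisymm ?_ fun W hW => ?_
    · rintro _ ⟨g, rfl⟩
      have hinj : Function.Injective (Matrix.toLin' g.1.1) := fun u v huv => by
        simp only [Matrix.toLin'_apply] at huv
        exact Matrix.mulVec_injective_iff_isUnit.2 g.1.isUnit huv
      rw [hΩ]
      refine ⟨?_, ?_⟩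
      · show Module.finrank F (W₀.map (Matrix.toLin' g.1.1)) = m
        rw [← (Submodule.equivMapOfInjective _ hinj W₀).finrank_eq, (hmem W₀ hW₀).1]
      · rintro _ ⟨u, hu, rfl⟩ huo
        rw [(hmem W₀ hW₀).2 u hu fun v hv => ?_, map_zero]
        have h := huo _ ⟨v, hv, rfl⟩
        rwa [Matrix.toLin'_apply, Matrix.toLin'_apply, (gu_mem_iff C).1 g.2] at h
    · have horth : ∀ W ∈ Ω, ∃ v : Fin m → W, ∀ i j, C.form (v i : Fin (m + d) → F) (v j) = if i = j then 1 else 0 := by
        intro W hW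
        let BW : W →ₛₗ[(C.bar : F →+* F)] W →ₗ[F] F :=
          LinearMap.mk₂'ₛₗ (C.bar : F →+* F) (RingHom.id F) (fun u v => C.form (v : Fin (m + d) → F) (u : Fin (m + d) → F))
            (fun a b c => C.form_add_right _ _ _) (fun r a b => C.form_smul_right r _ _)
            (fun a b c => C.form_add_left _ _ _) (fun r a b => C.form_smul_left r _ _)
        have hBW : BW.Nondegenerate :=
          ⟨fun u h => Subtype.ext ((hmem W hW).2 u u.2 fun v hv => C.form_swap_zero (h ⟨v, hv⟩)),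
            fun v h => Subtype.ext ((hmem W hW).2 v v.2 fun u hu => h ⟨u, hu⟩)⟩
        obtain ⟨v, hv⟩ := exists_orth (B := BW) (bar_ne_id C) C.bar_bar ⟨fun a b => C.bar_form _ _⟩ hBW m
          (hmem W hW).1.ge
        exact ⟨v, fun i j => (hv j i).trans (by simp [eq_comm])⟩
      obtain ⟨v, hv⟩ := horth W₀ hW₀
      obtain ⟨w, hw⟩ := horth W hW
      have hli : ∀ (W' : Submodule F (Fin (m + d) → F)) (v : Fin m → W'),
          (∀ i j, C.form (v i : Fin (m + d) → F) (v j) = if i = j then 1 else 0) →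
            LinearIndependent F fun i => (v i : Fin (m + d) → F) := fun W' v hv =>
        linearIndependent_of_orth (B := hB C (m + d)) fun i j => (hv j i).trans (by simp [eq_comm])
      have hspan : ∀ (W' : Submodule F (Fin (m + d) → F)) (v : Fin m → W'), W' ∈ Ω →
          (LinearIndependent F fun i => (v i : Fin (m + d) → F)) →
            Submodule.span F (Set.range fun i => (v i : Fin (m + d) → F)) = W' := fun W' v hW' hl =>
        Submodule.eq_of_le_of_finrank_le (Submodule.span_le.2 (by rintro _ ⟨i, rfl⟩; exact (v i).2))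
          (by rw [finrank_span_eq_card hl, (hmem W' hW').1, Fintype.card_fin])
      obtain ⟨g, hg⟩ := exists_move_tuple C (hli W₀ v hv) (hli W w hw) fun i j => by rw [hv, hw]
      refine ⟨g, ?_⟩
      show W₀.map (Matrix.toLin' g.1.1) = W
      rw [← hspan W₀ v hW₀ (hli W₀ v hv), ← hspan W w hW (hli W w hw), Submodule.map_span, ← Set.range_comp]
      exact congrArg (Submodule.span F) (congrArg Set.range (funext fun i => (Matrix.toLin'_apply _ _).trans (hg i)))
  obtain ⟨e⟩ := HermStab.stab_equiv C W₀ (hmem W₀ hW₀).1 (hmem W₀ hW₀).2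
  have hstab : MulAction.stabilizer (Cfsg.GU (m + d) F q) W₀ =
      (Cfsg.stabilizing (Cfsg.glToMat (Fin (m + d)) F) (W₀ : Set (Fin (m + d) → F))).subgroupOf (Cfsg.GU (m + d) F q) := by
    ext g
    have hinj : Function.Injective (fun v => g.1.1 *ᵥ v) := fun u v huv => Matrix.mulVec_injective_iff_isUnit.2 g.1.isUnit huv
    rw [MulAction.mem_stabilizer_iff, Subgroup.mem_subgroupOf, hsmul]
    constructor
    · intro h v
      refine ⟨fun hv => ?_, fun hv => ?_⟩
      · show g.1.1 *ᵥ v ∈ W₀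
        rw [← h]; exact ⟨v, hv, Matrix.toLin'_apply _ _⟩
      · have hv' : g.1.1 *ᵥ v ∈ W₀.map (Matrix.toLin' g.1.1) := by rw [h]; exact hv
        obtain ⟨u, hu, hu'⟩ := hv'
        rw [Matrix.toLin'_apply] at hu'
        exact hinj hu' ▸ hu
    · intro h
      refine Submodule.eq_of_le_of_finrank_le ?_ ?_
      · rintro _ ⟨u, hu, rfl⟩
        rw [Matrix.toLin'_apply]
        exact (h u).1 hu
      · rw [← (Submodule.equivMapOfInjective _ (fun u v huv => hinj (by simpa only [Matrix.toLin'_apply] using huv)) W₀).finrank_eq]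
  have hmul := (MulAction.stabilizer (Cfsg.GU (m + d) F q) W₀).index_mul_card
  rw [MulAction.index_stabilizer, horb, hstab, Nat.card_congr e.toEquiv, Nat.card_prod, card_gu_formula C hF,
    card_gu_formula C hF, card_gu_formula C hF] at hmul
  have hq1 : 1 ≤ q := by have := two_le_q hF; omega
  have h1 := congrArg (Nat.cast (R := ℤ)) hmul
  rw [Nat.cast_mul (m := Ω.ncard), Nat.cast_mul, HermIsoCount.guOrd_cast hq1, HermIsoCount.guOrd_cast hq1,
    HermIsoCount.guOrd_cast hq1] at h1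
  unfold HermIsoCount.guOrd at h1
  rw [show Finset.range (m + d) = Finset.range (d + m) by rw [add_comm], Finset.prod_range_add] at h1
  have hP0 : ∏ i ∈ Finset.range d, ((q : ℤ) ^ (i + 1) - (-1) ^ (i + 1)) ≠ 0 := by
    have hq2 : (1 : ℤ) < q := by have := two_le_q hF; exact_mod_cast this
    refine Finset.prod_ne_zero_iff.2 fun i _ h0 => ?_
    have h2 : (1 : ℤ) < (q : ℤ) ^ (i + 1) := one_lt_pow₀ hq2 (Nat.succ_ne_zero i)
    rcases neg_one_pow_eq_or ℤ (i + 1) with h | h <;> · rw [h] at h0; omega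
  have h2 : (Ω.ncard : ℤ) * (((q : ℤ) ^ (m * (m - 1) / 2) * ∏ i ∈ Finset.range m, ((q : ℤ) ^ (i + 1) - (-1) ^ (i + 1))) *
      (q : ℤ) ^ (d * (d - 1) / 2)) =
      (q : ℤ) ^ ((m + d) * (m + d - 1) / 2) * ∏ i ∈ Finset.range m, ((q : ℤ) ^ (d + i + 1) - (-1) ^ (d + i + 1)) := by
    refine mul_left_cancel₀ hP0 ?_
    linear_combination h1
  have h3 : (r : ℤ) ∣ (q : ℤ) ^ ((m + d) * (m + d - 1) / 2) *
      ∏ i ∈ Finset.range m, ((q : ℤ) ^ (d + i + 1) - (-1) ^ (d + i + 1)) :=
    h2 ▸ (Int.natCast_dvd_natCast.2 hr).mul_right _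
  rcases (Nat.prime_iff_prime_int.1 (Fact.out : r.Prime)).dvd_or_dvd h3 with h4 | h4
  · obtain ⟨j, hj, -⟩ := tail_prime (A := 0) hF (Fact.out : r.Prime) (by rw [Finset.prod_range_zero, mul_one]; exact h4) hrp
    omega
  · obtain ⟨k, hk, hk'⟩ := ((Nat.prime_iff_prime_int.1 (Fact.out : r.Prime)).dvd_finset_prod_iff _).1 h4
    rw [Finset.mem_range] at hk
    obtain ⟨t, ht⟩ := block_dvd (p := p) hrp hr2 hF hi hc hk'
    have h5 := Nat.mod_add_div (m + d) c
    have hc0 : 0 < c := Nat.pos_of_ne_zero fun h => by rw [h, zero_mul] at ht; omega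
    have h6 : t ≤ (m + d) / c := by
      rw [Nat.le_div_iff_mul_le hc0, mul_comm]; omega
    have h7 : c * t ≤ c * ((m + d) / c) := Nat.mul_le_mul_left c h6
    omega

end CfsgLib.Perm.Elusive.HermIso
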