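import Mathlib
import Cfsg.Agent.Lib.Perm.Elusive.HermIso.Blocks
import Cfsg.Agent.Lib.Classical.HermOrder

/-!
# Elements of prime order with few invariant subspaces
-/

set_option autoImplicit false
set_option linter.all false

namespace CfsgLib.Perm.Elusive.HermIso

open Matrix Polynomial CfsgLib.SU CfsgLib.Classical CfsgLib.Classical.HermStab

variable {F : Type*} [Field F] {q : ℕ}

/-- a cyclic monomial block -/
theorem exists_companion (C : UCtx F q) (m : ℕ) {z : F} (hz : z * C.bar z = 1) :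
    ∃ M : Matrix (Fin (m + 1)) (Fin (m + 1)) F, Iso C (Matrix.toLin' M) ∧ M.det = (-1) ^ m * z ∧
      aeval (Matrix.toLin' M) (X ^ (m + 1) - Polynomial.C z) = 0 := by
  classical
  obtain ⟨d, hd⟩ : ∃ d : Fin (m + 1) → F, ∀ s, d s = if s = Fin.last m then z else 1 := ⟨_, fun s => rfl⟩
  obtain ⟨L, hL⟩ : ∃ L : (Fin (m + 1) → F) →ₗ[F] (Fin (m + 1) → F),
      ∀ u t, L u t = d ((finRotate (m + 1)).symm t) * u ((finRotate (m + 1)).symm t) :=
    ⟨{ toFun := fun u t => d ((finRotate (m + 1)).symm t) * u ((finRotate (m + 1)).symm t)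
       map_add' := fun u v => funext fun t => mul_add _ _ _
       map_smul' := fun c u => funext fun t => mul_left_comm _ _ _ }, fun u t => rfl⟩
  have hsingle : ∀ s, L (Pi.single s 1) = d s • Pi.single (finRotate (m + 1) s) 1 := fun s => by
    funext t
    rw [hL, Pi.smul_apply, smul_eq_mul]
    by_cases ht : (finRotate (m + 1)).symm t = s
    · rw [ht, Pi.single_eq_same, show t = finRotate (m + 1) s by rw [← ht, Equiv.apply_symm_apply], Pi.single_eq_same]
    · rw [Pi.single_eq_of_ne ht, mul_zero, Pi.single_eq_of_ne (fun h => ht (by rw [h, Equiv.symm_apply_apply])), mul_zero]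
  have hnorm : ∀ s, d s * C.bar (d s) = 1 := fun s => by
    rw [hd]; split_ifs
    · exact hz
    · rw [map_one, mul_one]
  have hiter : ∀ s : Fin (m + 1), (L ^ (s : ℕ)) (Pi.single 0 1) = Pi.single s 1 := by
    intro s
    induction s using Fin.induction with
    | zero => rw [Fin.val_zero, pow_zero]; rfl
    | succ s ih =>
      rw [Fin.val_succ, pow_succ', Module.End.mul_apply, ← Fin.val_castSucc, ih, hsingle, hd,
        if_neg (Fin.castSucc_lt_last s).ne, one_smul]
      congr 1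
      refine Fin.ext ?_
      rw [coe_finRotate_of_ne_last (Fin.castSucc_lt_last s).ne, Fin.val_castSucc, Fin.val_succ]
  have h0 : (L ^ (m + 1)) (Pi.single 0 1) = z • Pi.single 0 1 := by
    have h := hiter (Fin.last m)
    rw [Fin.val_last] at h
    rw [pow_succ', Module.End.mul_apply, h, hsingle, finRotate_last, hd, if_pos rfl]
  refine ⟨LinearMap.toMatrix' L, ?_, ?_, ?_⟩
  · rw [Matrix.toLin'_toMatrix']
    intro u v
    show ∑ t, L u t * C.bar (L v t) = ∑ t, u t * C.bar (v t)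
    refine Eq.trans (Finset.sum_congr rfl fun t _ => ?_) (Equiv.sum_comp (finRotate (m + 1)).symm (fun t => u t * C.bar (v t)))
    rw [hL, hL, map_mul, mul_mul_mul_comm, hnorm, one_mul]
  · rw [LinearMap.det_toMatrix', det_of_monomial (Pi.basisFun F _) L (finRotate (m + 1)) d (fun s => by
      simp only [Pi.basisFun_apply]; exact hsingle s), sign_finRotate]
    simp [hd, Finset.prod_ite_eq']
  · rw [Matrix.toLin'_toMatrix', map_sub, map_pow, aeval_X, aeval_C, sub_eq_zero]
    refine (Pi.basisFun F _).ext fun s => ?_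
    rw [Pi.basisFun_apply, ← hiter s, ← Module.End.mul_apply, pow_mul_comm, Module.End.mul_apply, h0,
      map_smul, Module.algebraMap_end_apply]

/-- copies of a cyclic monomial block -/
theorem exists_nonpower_elem (C : UCtx F q) {n k m : ℕ} (hn : n = k * (m + 1)) {z : F} (hz : z * C.bar z = 1) :
    ∃ M : Matrix (Fin n) (Fin n) F, Iso C (Matrix.toLin' M) ∧ M.det = ((-1) ^ m * z) ^ k ∧
      aeval (Matrix.toLin' M) (X ^ (m + 1) - Polynomial.C z) = 0 := by
  subst hn
  obtain ⟨A, h1, h2, h3⟩ := exists_companion C m hz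
  obtain ⟨M, g1, g2, g3⟩ := exists_copies A h1 k
  exact ⟨M, g1, by rw [g2, h2], g3 _ h3⟩

variable {C : UCtx F q} [Fintype F] {p : ℕ} [Fact p.Prime] [CharP F p] {r : ℕ} [Fact r.Prime]

/-- a block of order `r` without fixed vectors -/
theorem exists_block (C : UCtx F q) (hF : Fintype.card F = q ^ 2) (hrp : r ≠ p) (hr2 : r ≠ 2) {i b c : ℕ}
    (hi : i = orderOf (q : ZMod r)) (hb : b = if Even i then i / 2 else i) (hc : c = if i % 4 = 2 then b else 2 * b)
    (hrq : ¬ r ∣ q + 1) :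
    ∃ A : Matrix (Fin c) (Fin c) F, Iso C (Matrix.toLin' A) ∧ A.det = 1 ∧
      aeval (Matrix.toLin' A) (X ^ r - Polynomial.C (1 : F)) = 0 ∧ aeval (Matrix.toLin' A) (cyclotomic r F) = 0 := by
  obtain ⟨a, hq⟩ : ∃ a : ℕ, q = p ^ a := by
    obtain ⟨k, hpp, hk⟩ := FiniteField.card F p
    rw [hF] at hk
    obtain ⟨f, -, hq⟩ := (Nat.dvd_prime_pow hpp).1 (hk ▸ dvd_pow_self q two_ne_zero)
    exact ⟨f, hq⟩
  obtain ⟨hbo, -⟩ := factor_degree' (F := F) (p := p) hF hrp hi hb
  have hbpos : 0 < b := hbo ▸ order_pos (p := p) hrp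
  obtain ⟨w, hw⟩ : ∃ w, q = w + 1 := ⟨q - 1, by have := two_le_q hF; omega⟩
  have hw2 : ¬ r ∣ w + 2 := by rwa [show w + 2 = q + 1 by omega]
  have hK : r ∣ HermTori.K q c := by
    by_cases h4 : i % 4 = 2
    · rw [if_pos h4] at hc
      have hev : Even i := ⟨i / 2, by omega⟩
      rw [if_pos hev] at hb
      obtain ⟨u, hu⟩ : Odd c := ⟨i / 4, by omega⟩
      have h1 : r ∣ HermTori.K q c * (w + 2) := by
        rw [hu, hw, HermTori.K_odd_mul, ← hw, ← hu, hc, hb]
        exact dvd_q_pow_succ (p := p) hF hrp hi h4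
      exact ((Fact.out : r.Prime).dvd_mul.1 h1).resolve_right hw2
    · rw [if_neg h4] at hc
      have h0 : i ∣ 2 * b := by
        rcases Nat.even_or_odd i with he | ho
        · rw [hb, if_pos he, Nat.two_mul_div_two_of_even he]
        · rw [hb, if_neg (Nat.not_even_iff_odd.2 ho)]; exact Dvd.intro_left 2 rfl
      have h1 : r ∣ HermTori.K q c * (w + 2) := by
        have h2 : r ∣ q ^ (2 * b) - 1 := by
          rw [← ZMod.natCast_eq_zero_iff, Nat.cast_sub (Nat.one_le_pow _ _ (by omega)), Nat.cast_pow, Nat.cast_one,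
            sub_eq_zero]
          exact orderOf_dvd_iff_pow_eq_one.1 (hi ▸ h0)
        rwa [hw, ← HermTori.K_even_mul, Nat.add_sub_cancel, ← hw, ← hc] at h2
      exact ((Fact.out : r.Prime).dvd_mul.1 h1).resolve_right hw2
  have hcpos : 0 < c := by rw [hc]; split_ifs <;> omega
  obtain ⟨y, hy⟩ := HermTori.exists_torus C hq hF hcpos hK
  have hyr : y.1.1 ^ r = 1 := by
    have h := pow_orderOf_eq_one y
    rw [hy] at h
    have h2 := congrArg (fun z : ↥(Cfsg.SU c F q) => (Cfsg.slToMat c F) z.1) h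
    simp only [SubmonoidClass.coe_pow, map_pow, OneMemClass.coe_one, map_one] at h2
    exact h2
  have hkill : aeval (Matrix.toLin' y.1.1) (X ^ r - Polynomial.C (1 : F)) = 0 := by
    rw [map_sub, map_pow, aeval_X, aeval_C, map_one, ← Matrix.toLin'_pow, hyr, Matrix.toLin'_one, sub_eq_zero]
    rfl
  have hI : Iso C (Matrix.toLin' y.1.1) := fun u v => by
    rw [Matrix.toLin'_apply, Matrix.toLin'_apply]; exact C.form_su y u v
  refine ⟨y.1.1, hI, y.1.2, hkill, ?_⟩
  have hT : (Matrix.toLin' y.1.1 : Module.End F (Fin c → F)) ^ r = 1 := by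
    rw [← Matrix.toLin'_pow, hyr, Matrix.toLin'_one]; rfl
  obtain ⟨e, K, hn, he, -, -⟩ := nd_invariant hF hrp hr2 hI hT hi hb hc
  rcases K with _ | K
  · exfalso
    have htop : LinearMap.ker (aeval (Matrix.toLin' y.1.1) (X - Polynomial.C (1 : F))) = ⊤ :=
      Submodule.eq_top_of_finrank_eq (by rw [← he, Module.finrank_fin_fun]; omega)
    have h1 : Matrix.toLin' y.1.1 = 1 := by
      have h := LinearMap.ker_eq_top.1 htop
      rwa [map_sub, aeval_X, aeval_C, map_one, sub_eq_zero] at h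
    have h2 : y = 1 := Subtype.ext (Subtype.ext (Matrix.toLin'.injective (h1.trans Matrix.toLin'_one.symm)))
    rw [h2, orderOf_one] at hy
    exact (Fact.out : r.Prime).ne_one hy.symm
  · have he0 : e = 0 := by
      have : (K + 1) * c = K * c + c := Nat.succ_mul K c
      omega
    have hbot : LinearMap.ker (aeval (Matrix.toLin' y.1.1) (X - Polynomial.C (1 : F))) = ⊥ :=
      Submodule.finrank_eq_zero.1 (by rw [← he, he0])
    refine LinearMap.ext fun u => LinearMap.ker_eq_bot.1 hbot ?_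
    rw [← Module.End.mul_apply, ← map_mul, map_one Polynomial.C, mul_comm, cyclotomic_prime_mul_X_sub_one,
      show (X ^ r - 1 : F[X]) = X ^ r - Polynomial.C (1 : F) by rw [map_one], hkill, LinearMap.zero_apply, map_zero]


/-- an element with a prescribed fixed space -/
theorem exists_fixed (C : UCtx F q) (hF : Fintype.card F = q ^ 2) (hrp : r ≠ p) (hr2 : r ≠ 2) {i b c : ℕ}
    (hi : i = orderOf (q : ZMod r)) (hb : b = if Even i then i / 2 else i) (hc : c = if i % 4 = 2 then b else 2 * b)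
    (hrq : ¬ r ∣ q + 1) {n e K : ℕ} (hn : n = e + K * c) :
    ∃ M : Matrix (Fin n) (Fin n) F, Iso C (Matrix.toLin' M) ∧ M.det = 1 ∧
      aeval (Matrix.toLin' M) (X ^ r - Polynomial.C (1 : F)) = 0 ∧
      Module.finrank F (LinearMap.ker (aeval (Matrix.toLin' M) (X - Polynomial.C (1 : F)))) = e := by
  subst hn
  obtain ⟨A, hA, hAd, hAr, hAc⟩ := exists_block C hF hrp hr2 hi hb hc hrq
  obtain ⟨B, hB, hBd, hBk⟩ := exists_copies A hA K
  obtain ⟨hS, hSk⟩ := scalar_block (C := C) e (w := (1 : F)) (by rw [map_one, mul_one])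
  refine ⟨blockMat ((1 : F) • (1 : Matrix (Fin e) (Fin e) F)) B, block_iso hS hB, ?_, block_kill ?_ (hBk _ hAr), ?_⟩
  · rw [HermTori.det_blockMat, hBd, hAd, one_smul, Matrix.det_one, one_pow, one_mul]
  · refine LinearMap.ext fun u => aeval_of_dvd ?_ (by rw [hSk]; rfl)
    rw [map_one]
    exact sub_one_dvd_pow_sub_one X r
  · rw [finrank_ker_block, hSk, LinearMap.ker_zero, finrank_top, Module.finrank_fin_fun]
    have hbot : LinearMap.ker (aeval (Matrix.toLin' B) (X - Polynomial.C (1 : F))) = ⊥ := by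
      rw [Submodule.eq_bot_iff]
      intro u hu
      have hco : IsCoprime (X - Polynomial.C (1 : F)) (cyclotomic r F) := by
        rw [(irreducible_X_sub_C (1 : F)).coprime_iff_not_dvd, dvd_iff_isRoot, IsRoot, eval_one_cyclotomic_prime]
        exact natCast_ne_zero_of_ne (p := p) hrp
      exact Submodule.disjoint_def.1 (disjoint_ker_aeval_of_isCoprime _ hco) u hu
        (LinearMap.mem_ker.2 (by rw [hBk _ hAc]; rfl))
    rw [hbot, finrank_bot, add_zero]

/-- a block whose minimal polynomial is an irreducible factor -/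
theorem exists_irr_block (C : UCtx F q) (hF : Fintype.card F = q ^ 2) (hrp : r ≠ p) (hr2 : r ≠ 2) {i b : ℕ}
    (hi : i = orderOf (q : ZMod r)) (hb : b = if Even i then i / 2 else i) (h4 : i % 4 = 2) :
    ∃ (y : Matrix (Fin b) (Fin b) F) (g : F[X]), Irreducible g ∧ g.Monic ∧ g ∣ cyclotomic r F ∧
      Iso C (Matrix.toLin' y) ∧ (i ≠ 2 → y.det = 1) ∧ y.det ^ r = 1 ∧ aeval (Matrix.toLin' y) g = 0 := by
  obtain ⟨hbo, hdeg⟩ := factor_degree' (F := F) (p := p) hF hrp hi hb
  have hbpos : 0 < b := hbo ▸ order_pos (p := p) hrp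
  by_cases hi2 : i = 2
  · have hb1 : b = 1 := by rw [hi2, if_pos even_two] at hb; simpa using hb
    subst hb1
    have hrq : r ∣ q + 1 := by
      have := dvd_q_pow_succ (F := F) (p := p) hF hrp hi h4
      rwa [hi2, show 2 / 2 = 1 from rfl, pow_one] at this
    obtain ⟨ζ, hζ⟩ := HermTori.exists_of_order F (k := r) (hrq.trans ⟨q - 1, by
      rw [hF, ← Nat.sq_sub_sq, one_pow]⟩)
    have hζr : ζ ^ r = 1 := hζ ▸ pow_orderOf_eq_one ζ
    have hζ1 : ζ ≠ 1 := fun h => by rw [h, orderOf_one] at hζ; exact (Fact.out : r.Prime).ne_one hζ.symm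
    have hN : ζ * C.bar ζ = 1 := by
      rw [C.bar_eq, ← pow_succ']
      exact orderOf_dvd_iff_pow_eq_one.1 (hζ ▸ hrq)
    obtain ⟨h1, h2⟩ := scalar_block (C := C) 1 hN
    refine ⟨_, _, irreducible_X_sub_C ζ, monic_X_sub_C ζ, ?_, h1, fun h => absurd hi2 h, ?_, h2⟩
    · rw [dvd_iff_isRoot]
      have h := congrArg (eval ζ) (cyclotomic_prime_mul_X_sub_one F r)
      rw [eval_mul, eval_sub, eval_X, eval_one, eval_sub, eval_pow, eval_X, eval_one, hζr, sub_self] at h
      exact (mul_eq_zero.1 h).resolve_right (sub_ne_zero.2 hζ1)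
    · rw [Matrix.det_smul, Fintype.card_fin, pow_one, Matrix.det_one, mul_one, hζr]
  · have hrq : ¬ r ∣ q + 1 := fun h => by
      have h1 : (q : ZMod r) = -1 := by
        rw [← add_eq_zero_iff_eq_neg]
        exact_mod_cast (ZMod.natCast_eq_zero_iff _ r).2 h
      refine hi2 (hi.trans ?_)
      haveI : Fact (2 < r) := ⟨lt_of_le_of_ne (Fact.out : r.Prime).two_le (Ne.symm hr2)⟩
      exact orderOf_eq_prime (by rw [h1]; ring) (by rw [h1]; exact ZMod.neg_one_ne_one)
    obtain ⟨A, hA, hAd, -, hAc⟩ := exists_block C hF hrp hr2 hi hb (if_pos h4).symm hrq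
    obtain ⟨g, hg, hgm, hgd, u, -, hu0, hgu⟩ := exists_component (T := Matrix.toLin' A) (S := ⊤)
      (cyclotomic_squarefree' (F := F) (p := p) hrp) (inv_top _) (fun u _ => by rw [hAc]; rfl) (fun h => by
        have h1 := congrArg (fun S : Submodule F (Fin b → F) => Module.finrank F S) h
        simp only [finrank_top, finrank_bot, Module.finrank_fin_fun] at h1
        omega)
    refine ⟨A, g, hg, hgm, hgd, hA, fun _ => hAd, by rw [hAd, one_pow], ?_⟩
    have htop : cyc (Matrix.toLin' A) u = ⊤ := Submodule.eq_top_of_finrank_eq (by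
      rw [finrank_cyc hgm hg hgu hu0, hdeg g hg hgd, Module.finrank_fin_fun])
    exact LinearMap.ext fun v => LinearMap.mem_ker.1 (cyc_le_ker hgu (htop ▸ Submodule.mem_top))

/-- elements with classes of odd multiplicity -/
theorem exists_classes (C : UCtx F q) (hF : Fintype.card F = q ^ 2) (hrp : r ≠ p) (hr2 : r ≠ 2) {i b : ℕ}
    (hi : i = orderOf (q : ZMod r)) (hb : b = if Even i then i / 2 else i) (h4 : i % 4 = 2) (e : ℕ) (μ l : ℕ → ℕ) :
    ∃ δ : F, (i ≠ 2 → δ = 1) ∧ δ ^ r = 1 ∧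
      ∀ o n : ℕ, (∀ j < o, Odd (μ j) ∧ (l j : ZMod r) ≠ 0) →
        (∀ j < o, ∀ j' < o, j ≠ j' → ∀ a : ℕ, (l j : ZMod r) ≠ (l j' : ZMod r) * ((q : ZMod r) ^ 2) ^ a) →
        n = e + (∑ j ∈ Finset.range o, μ j) * b →
        ∃ M : Matrix (Fin n) (Fin n) F, Iso C (Matrix.toLin' M) ∧ M.det = δ ^ (∑ j ∈ Finset.range o, l j * μ j) ∧
          aeval (Matrix.toLin' M) (X ^ r - Polynomial.C (1 : F)) = 0 ∧
          Bd C M (2 * (e / 2) + ∑ j ∈ Finset.range o, (μ j - 1) * b) := by
  classical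
  obtain ⟨hbo, hdeg⟩ := factor_degree' (F := F) (p := p) hF hrp hi hb
  obtain ⟨y, g, hg, hgm, hgd, hy, hyd, hydr, hgy⟩ := exists_irr_block C hF hrp hr2 hi hb h4
  refine ⟨y.det, hyd, hydr, ?_⟩
  haveI : Fact (Irreducible g) := ⟨hg⟩
  haveI : Module.Finite F (AdjoinRoot g) := hgm.finite_adjoinRoot
  obtain ⟨α, hα⟩ : ∃ α, α = AdjoinRoot.root g := ⟨_, rfl⟩
  have hαr : α ^ r = 1 := by
    have h0 := AdjoinRoot.mk_eq_zero.2 (hgd.trans (cyclotomic.dvd_X_pow_sub_one r F))
    rw [map_sub, map_pow, AdjoinRoot.mk_X, map_one, sub_eq_zero] at h0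
    rw [hα]; exact h0
  have hα1 : α ≠ 1 := fun h => by
    have h0 := AdjoinRoot.mk_eq_zero.2 hgd
    rw [← AdjoinRoot.aeval_eq, ← hα, h, ← map_one (algebraMap F (AdjoinRoot g)), aeval_algebraMap_apply,
      coe_aeval_eq_eval, eval_one_cyclotomic_prime, map_natCast] at h0
    exact natCast_ne_zero_of_ne (F := F) (p := p) hrp
      ((map_eq_zero (algebraMap F (AdjoinRoot g))).1 (by rw [map_natCast]; exact h0))
  have hord : orderOf α = r := orderOf_eq_prime hαr hα1
  have hint : ∀ x : AdjoinRoot g, IsIntegral F x := fun x => IsIntegral.of_finite F x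
  obtain ⟨P, hP⟩ : ∃ P : ℕ → F[X], ∀ j, P j = minpoly F (α ^ l j) := ⟨_, fun j => rfl⟩
  -- powers of the block
  have hblock : ∀ j, (l j : ZMod r) ≠ 0 → Irreducible (P j) ∧ (P j).Monic ∧ (P j).natDegree = b ∧
      IsCoprime (X - Polynomial.C (1 : F)) (P j) ∧ P j ∣ X ^ r - Polynomial.C (1 : F) ∧
      aeval (Matrix.toLin' (y ^ l j)) (P j) = 0 := by
    intro j hj
    have hi' := minpoly.irreducible (hint (α ^ l j))
    have hne : α ^ l j ≠ 1 := fun h => hj (by
      rw [ZMod.natCast_eq_zero_iff, ← hord]; exact orderOf_dvd_of_pow_eq_one h)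
    have hXr : P j ∣ X ^ r - Polynomial.C (1 : F) := hP j ▸ minpoly.dvd _ _ (by
      rw [map_sub, map_pow, aeval_X, aeval_C, map_one, ← pow_mul, mul_comm, pow_mul, hαr, one_pow, sub_self])
    have hcyc : P j ∣ cyclotomic r F := hP j ▸ minpoly.dvd _ _ (by
      have h := congrArg (aeval (α ^ l j)) (cyclotomic_prime_mul_X_sub_one F r)
      rw [map_mul, map_sub, aeval_X, map_one, map_sub, map_pow, aeval_X, map_one, ← pow_mul, mul_comm (l j), pow_mul,
        hαr, one_pow, sub_self] at h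
      exact (mul_eq_zero.1 h).resolve_right (sub_ne_zero.2 hne))
    refine ⟨hP j ▸ hi', hP j ▸ minpoly.monic (hint _), hdeg _ (hP j ▸ hi') hcyc, ?_, hXr, ?_⟩
    · have hco : IsCoprime (X - Polynomial.C (1 : F)) (cyclotomic r F) := by
        rw [(irreducible_X_sub_C (1 : F)).coprime_iff_not_dvd, dvd_iff_isRoot, IsRoot, eval_one_cyclotomic_prime]
        exact natCast_ne_zero_of_ne (p := p) hrp
      exact hco.of_isCoprime_of_dvd_right hcyc
    · have hdvd : g ∣ (P j).comp (X ^ l j) := by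
        rw [← AdjoinRoot.mk_eq_zero, ← AdjoinRoot.aeval_eq, aeval_comp, map_pow, aeval_X, ← hα, hP, minpoly.aeval]
      obtain ⟨R, hR⟩ := hdvd
      have h := congrArg (aeval (Matrix.toLin' y)) hR
      rw [aeval_comp, map_pow, aeval_X, map_mul, hgy, zero_mul, ← Matrix.toLin'_pow] at h
      exact h
  intro o
  induction o with
  | zero =>
    intro n _ _ hn
    rw [Finset.sum_range_zero, zero_mul, add_zero] at hn
    subst hn
    obtain ⟨h1, h2⟩ := scalar_block (C := C) n (w := (1 : F)) (by rw [map_one, mul_one])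
    refine ⟨_, h1, by simp, LinearMap.ext fun u => aeval_of_dvd ?_ (by rw [h2]; rfl), ?_⟩
    · rw [map_one]; exact sub_one_dvd_pow_sub_one X r
    · rw [Finset.sum_range_zero, add_zero]; exact bd_scalar _
  | succ o ih =>
    -- strengthen by recording an annihilating polynomial
    clear ih
    suffices H : ∀ o n : ℕ, (∀ j < o, Odd (μ j) ∧ (l j : ZMod r) ≠ 0) →
        (∀ j < o, ∀ j' < o, j ≠ j' → ∀ a : ℕ, (l j : ZMod r) ≠ (l j' : ZMod r) * ((q : ZMod r) ^ 2) ^ a) →
        n = e + (∑ j ∈ Finset.range o, μ j) * b →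
        ∃ M : Matrix (Fin n) (Fin n) F, Iso C (Matrix.toLin' M) ∧ M.det = y.det ^ (∑ j ∈ Finset.range o, l j * μ j) ∧
          aeval (Matrix.toLin' M) ((X - Polynomial.C (1 : F)) * ∏ j ∈ Finset.range o, P j) = 0 ∧
          aeval (Matrix.toLin' M) (X ^ r - Polynomial.C (1 : F)) = 0 ∧
          Bd C M (2 * (e / 2) + ∑ j ∈ Finset.range o, (μ j - 1) * b) by
      intro n h1 h2 h3
      obtain ⟨M, g1, g2, -, g4⟩ := H (o + 1) n h1 h2 h3
      exact ⟨M, g1, g2, g4⟩
    intro o
    induction o with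
    | zero =>
      intro n _ _ hn
      rw [Finset.sum_range_zero, zero_mul, add_zero] at hn
      subst hn
      obtain ⟨h1, h2⟩ := scalar_block (C := C) n (w := (1 : F)) (by rw [map_one, mul_one])
      refine ⟨_, h1, by simp, by rw [Finset.prod_range_zero, mul_one]; exact h2,
        LinearMap.ext fun u => aeval_of_dvd ?_ (by rw [h2]; rfl), ?_⟩
      · rw [map_one]; exact sub_one_dvd_pow_sub_one X r
      · rw [Finset.sum_range_zero, add_zero]; exact bd_scalar _
    | succ o ih =>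
      intro n h1 h2 hn
      rw [Finset.sum_range_succ, add_mul, ← add_assoc] at hn
      subst hn
      obtain ⟨M, g1, g2, g3, g4, g5⟩ := ih (e + (∑ j ∈ Finset.range o, μ j) * b) (fun j hj => h1 j (by omega))
        (fun j hj j' hj' => h2 j (by omega) j' (by omega)) rfl
      obtain ⟨hirr, hmon, hdeg', hcoX, hPr, hkill⟩ := hblock o (h1 o (by omega)).2
      have hyo : Iso C (Matrix.toLin' (y ^ l o)) := by rw [Matrix.toLin'_pow]; exact hy.pow _
      obtain ⟨B, k1, k2, k3⟩ := exists_copies (y ^ l o) hyo (μ o)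
      have hco : IsCoprime ((X - Polynomial.C (1 : F)) * ∏ j ∈ Finset.range o, P j) (P o) := by
        refine IsCoprime.mul_left hcoX (IsCoprime.prod_left fun j hj => ?_)
        rw [Finset.mem_range] at hj
        obtain ⟨hirr', hmon', -, -, -, -⟩ := hblock j (h1 j (by omega)).2
        refine hirr'.coprime_iff_not_dvd.2 fun hd => ?_
        have he := eq_of_monic_of_associated hmon' hmon (hirr'.associated_of_dvd hirr hd)
        have hx : aeval (α ^ l j) (minpoly F (α ^ l o)) = 0 := by rw [← hP, ← he, hP, minpoly.aeval]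
        have hne : α ^ l o ≠ 1 := fun h => (h1 o (by omega)).2 (by
          rw [ZMod.natCast_eq_zero_iff, ← hord]; exact orderOf_dvd_of_pow_eq_one h)
        obtain ⟨a, ha⟩ := root_conjugate (p := p) hrp (y := α ^ l o)
          (by rw [← pow_mul, mul_comm, pow_mul, hαr, one_pow]) hne hx
        rw [← pow_mul, (isOfFinOrder_iff_pow_eq_one.2 ⟨r, (Fact.out : r.Prime).pos, hαr⟩).pow_eq_pow_iff_modEq, hord,
          ← ZMod.natCast_eq_natCast_iff, Nat.cast_mul, Nat.cast_pow, card_cast hF] at ha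
        exact h2 j (by omega) o (by omega) (by omega) a ha
      refine ⟨blockMat M B, block_iso g1 k1, ?_, ?_, block_kill g4 ?_, ?_⟩
      · rw [HermTori.det_blockMat, g2, k2, Matrix.det_pow, Finset.sum_range_succ, pow_add, ← pow_mul]
      · rw [Finset.prod_range_succ, ← mul_assoc]
        exact block_kill (by rw [map_mul, g3, zero_mul]) (by rw [map_mul, k3 _ hkill, mul_zero])
      · exact LinearMap.ext fun u => aeval_of_dvd hPr (by rw [k3 _ hkill]; rfl)
      · rw [Finset.sum_range_succ, ← add_assoc]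
        refine bd_block hco g3 (k3 _ hkill) g5 fun W hW hWs => ?_
        obtain ⟨d, hd⟩ := dvd_finrank hmon hirr hW (fun u _ => by rw [k3 _ hkill]; rfl)
        have h := sing_two_mul_le hWs
        rw [hd, hdeg'] at h ⊢
        obtain ⟨u, hu⟩ := (h1 o (by omega)).1
        rw [hu, Nat.add_sub_cancel]
        rw [hu] at h
        have hbpos : 0 < b := hbo ▸ order_pos (p := p) hrp
        have h' : 2 * d * b ≤ (2 * u + 1) * b := by linarith [h]
        have : 2 * d ≤ 2 * u + 1 := Nat.le_of_mul_le_mul_right h' hbpos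
        calc 2 * (b * d) = 2 * d * b := by ring
          _ ≤ 2 * u * b := Nat.mul_le_mul_right b (by omega)

/-- exponents in distinct classes -/
theorem exists_exponents (hF : Fintype.card F = q ^ 2) (hrp : r ≠ p) {o b : ℕ}
    (hbo : b = orderOf ((Fintype.card F : ℕ) : ZMod r)) (ho : o ≤ (r - 1) / b) :
    ∃ l : ℕ → ℕ, (∀ j < o, (l j : ZMod r) ≠ 0) ∧
      ∀ j < o, ∀ j' < o, j ≠ j' → ∀ a : ℕ, (l j : ZMod r) ≠ (l j' : ZMod r) * ((q : ZMod r) ^ 2) ^ a := by
  classical
  obtain ⟨qu, hqu⟩ : ∃ qu : (ZMod r)ˣ, (qu : ZMod r) = (q : ZMod r) ^ 2 :=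
    ⟨Units.mk0 _ (pow_ne_zero 2 (q_ne_zero (p := p) hF hrp)), rfl⟩
  obtain ⟨H, hH⟩ : ∃ H : Subgroup (ZMod r)ˣ, H = Subgroup.zpowers qu := ⟨_, rfl⟩
  have hHc : Nat.card H = b := by
    rw [hH, Nat.card_zpowers, ← orderOf_units, hqu, hbo, card_cast hF]
  have hQ : Nat.card ((ZMod r)ˣ ⧸ H) = (r - 1) / b := by
    have h := Subgroup.card_eq_card_quotient_mul_card_subgroup H
    rw [Nat.card_eq_fintype_card, ZMod.card_units r, hHc] at h
    rw [h, Nat.mul_div_cancel _ (hbo ▸ order_pos (p := p) hrp)]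
  haveI : Fintype ((ZMod r)ˣ ⧸ H) := Fintype.ofFinite _
  obtain ⟨em⟩ : Nonempty (Fin o ↪ (ZMod r)ˣ ⧸ H) := Function.Embedding.nonempty_of_card_le (by
    rw [Fintype.card_fin, ← Nat.card_eq_fintype_card, hQ]; exact ho)
  refine ⟨fun j => if h : j < o then (((em ⟨j, h⟩).out : (ZMod r)ˣ) : ZMod r).val else 0, fun j hj => ?_,
    fun j hj j' hj' hne a h => ?_⟩
  · simp only [dif_pos hj, ZMod.natCast_zmod_val]
    exact Units.ne_zero _
  · simp only [dif_pos hj, dif_pos hj', ZMod.natCast_zmod_val, ← hqu, ← Units.val_pow_eq_pow_val, ← Units.val_mul] at h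
    refine hne (congrArg Fin.val (em.injective (a₁ := ⟨j, hj⟩) (a₂ := ⟨j', hj'⟩) ?_))
    rw [← QuotientGroup.out_eq' (em ⟨j, hj⟩), Units.ext h, QuotientGroup.mk_mul_of_mem _
      (hH ▸ Subgroup.pow_mem _ (Subgroup.mem_zpowers qu) a), QuotientGroup.out_eq']

end CfsgLib.Perm.Elusive.HermIso
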