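import Mathlib
import Cfsg.Agent.Lib.Perm.Elusive.HermIso.Blocks

/-!
# Unipotent isometries: orthogonal decompositions into single Jordan blocks
-/

set_option autoImplicit false
set_option linter.all false

namespace CfsgLib.Perm.Elusive.HermIso

open Matrix Polynomial CfsgLib.SU CfsgLib.Classical

variable {F : Type*} [Field F] {q : ℕ} {C : UCtx F q} {n : ℕ} {T : Module.End F (Fin n → F)}

/-- powers of `T - 1` -/
noncomputable def npow (T : Module.End F (Fin n → F)) (j : ℕ) : Module.End F (Fin n → F) :=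
  aeval T ((X - Polynomial.C (1 : F)) ^ j)

theorem npow_zero (T : Module.End F (Fin n → F)) : npow T 0 = 1 := by rw [npow, pow_zero, map_one]

theorem npow_add (T : Module.End F (Fin n → F)) (a b : ℕ) (u : Fin n → F) : npow T (a + b) u = npow T a (npow T b u) := by
  rw [npow, npow, npow, pow_add, map_mul, Module.End.mul_apply]

theorem npow_one (T : Module.End F (Fin n → F)) (u : Fin n → F) : npow T 1 u = T u - u := by
  rw [npow, pow_one, map_sub, aeval_X, aeval_C, map_one, LinearMap.sub_apply, Module.End.one_apply]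

/-- the sum of `a - j` over a partition -/
def rankFn (μ : Multiset ℕ) (j : ℕ) : ℕ := (μ.map fun a => a - j).sum

theorem rankFn_cons (a : ℕ) (μ : Multiset ℕ) (j : ℕ) : rankFn (a ::ₘ μ) j = (a - j) + rankFn μ j := by
  simp [rankFn]

theorem rankFn_add (μ ν : Multiset ℕ) (j : ℕ) : rankFn (μ + ν) j = rankFn μ j + rankFn ν j := by
  simp [rankFn]

theorem rankFn_count (μ : Multiset ℕ) (j : ℕ) :
    μ.count (j + 1) + 2 * rankFn μ (j + 1) = rankFn μ j + rankFn μ (j + 2) := by
  induction μ using Multiset.induction_on with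
  | empty => rfl
  | cons a μ ih =>
    rw [rankFn_cons, rankFn_cons, rankFn_cons, Multiset.count_cons]
    split_ifs <;> omega

theorem eq_of_rankFn {μ ν : Multiset ℕ} (hμ : ∀ a ∈ μ, 0 < a) (hν : ∀ a ∈ ν, 0 < a)
    (h : ∀ j, rankFn μ j = rankFn ν j) : μ = ν := by
  refine Multiset.ext.2 fun a => ?_
  rcases a with _ | a
  · rw [Multiset.count_eq_zero.2 fun h0 => lt_irrefl 0 (hμ 0 h0),
      Multiset.count_eq_zero.2 fun h0 => lt_irrefl 0 (hν 0 h0)]
  · have h1 := rankFn_count μ a
    have h2 := rankFn_count ν a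
    rw [h a, h (a + 1), h (a + 2)] at h1
    omega

theorem form_npow_one (hI : Iso C T) (u v : Fin n → F) :
    C.form (npow T 1 u) (T v) = -C.form u (npow T 1 v) := by
  rw [npow_one, npow_one, C.form_sub_left, C.form_sub_right, hI]
  ring

theorem map_sup_finrank {S W S' : Submodule F (Fin n → F)} (hW : Inv T W) (hWnd : Nd C W) (ho : S' ≤ perp C W)
    (hS' : Inv T S') (hsup : W ⊔ S' = S) (j : ℕ) :
    Module.finrank F (S.map (npow T j)) = Module.finrank F (W.map (npow T j)) + Module.finrank F (S'.map (npow T j)) := by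
  have h1 : W.map (npow T j) ≤ W := by rintro _ ⟨u, hu, rfl⟩; exact aeval_mem_of_invariant T hW _ hu
  have h2 : S'.map (npow T j) ≤ S' := by rintro _ ⟨u, hu, rfl⟩; exact aeval_mem_of_invariant T hS' _ hu
  have h := Submodule.finrank_sup_add_finrank_inf_eq (W.map (npow T j)) (S'.map (npow T j))
  rw [((nd_disjoint.1 hWnd).mono h1 (h2.trans ho)).eq_bot, finrank_bot, add_zero, ← Submodule.map_sup, hsup] at h
  exact h

/-- a nondegenerate subspace with a single Jordan block of the largest size -/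
theorem jordan_step (hI : Iso C T) {S : Submodule F (Fin n → F)} (hS : Inv T S) (hnd : Nd C S) {k : ℕ}
    (hk : ∀ u ∈ S, npow T (k + 1) u = 0) (hk' : ∃ u ∈ S, npow T k u ≠ 0) :
    ∃ W ≤ S, Inv T W ∧ Nd C W ∧ Module.finrank F W = k + 1 ∧ ∀ j, Module.finrank F (W.map (npow T j)) = k + 1 - j := by
  obtain ⟨v, hv, hvv⟩ : ∃ v ∈ S, C.form v (npow T k v) ≠ 0 := by
    by_contra hcon
    push Not at hcon
    obtain ⟨u₀, hu₀, hne⟩ := hk'
    obtain ⟨v₀, hv₀, hne'⟩ := (nd_iff S).1 hnd _ (aeval_mem_of_invariant T hS _ hu₀ : npow T k u₀ ∈ S) hne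
    obtain ⟨y, hy⟩ := C.exists_not_fixed
    have hcomb : ∀ a : F, a * C.form v₀ (npow T k u₀) + C.bar a * C.form u₀ (npow T k v₀) = 0 := fun a => by
      have h := hcon (a • v₀ + u₀) (S.add_mem (S.smul_mem a hv₀) hu₀)
      simp only [map_add, map_smul, C.form_add_left, C.form_add_right, C.form_smul_left, C.form_smul_right,
        hcon v₀ hv₀, hcon u₀ hu₀, mul_zero, zero_add, add_zero] at h
      exact h
    have h1 := hcomb 1
    have h2 := hcomb y
    rw [map_one, one_mul, one_mul] at h1
    refine hne' (C.form_swap_zero ?_)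
    refine (mul_eq_zero.1 (show (y - C.bar y) * C.form v₀ (npow T k u₀) = 0 by
      linear_combination h2 - C.bar y * h1)).resolve_left (sub_ne_zero.2 (Ne.symm hy))
  obtain ⟨W, hW⟩ : ∃ W, W = Submodule.span F (Set.range fun a : Fin (k + 1) => npow T (a : ℕ) v) := ⟨_, rfl⟩
  have hmem : ∀ a, npow T a v ∈ W := fun a => by
    rcases Nat.lt_or_ge a (k + 1) with h | h
    · exact hW ▸ Submodule.subset_span ⟨⟨a, h⟩, rfl⟩
    · rw [show a = (a - (k + 1)) + (k + 1) by omega, npow_add, hk v hv, map_zero]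
      exact zero_mem _
  have hWS : W ≤ S := hW ▸ Submodule.span_le.2 (by
    rintro _ ⟨a, rfl⟩; exact aeval_mem_of_invariant T hS _ hv)
  have hWi : Inv T W := by
    have hle : W ≤ W.comap T := by
      conv_lhs => rw [hW]
      refine Submodule.span_le.2 ?_
      rintro _ ⟨a, rfl⟩
      show T (npow T (a : ℕ) v) ∈ W
      rw [show T (npow T (a : ℕ) v) = npow T 1 (npow T (a : ℕ) v) + npow T (a : ℕ) v by rw [npow_one, sub_add_cancel],
        ← npow_add]
      exact add_mem (hmem _) (hmem _)
    exact hle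
  have hx0 : npow T k v ≠ 0 := fun h => hvv (by rw [h, C.form_zero_right])
  have hli : LinearIndependent F fun a : Fin (k + 1) => npow T (a : ℕ) v := by
    rw [Fintype.linearIndependent_iff]
    intro c hc a
    induction a using WellFoundedLT.induction with
    | _ a ih =>
      have h := congrArg (npow T (k - (a : ℕ))) hc
      rw [map_sum, map_zero, Finset.sum_eq_single a] at h
      · rw [map_smul, ← npow_add, show k - (a : ℕ) + a = k by omega] at h
        exact (smul_eq_zero.1 h).resolve_right hx0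
      · intro b _ hb
        rw [map_smul, ← npow_add]
        rcases lt_or_gt_of_ne hb with hlt | hgt
        · rw [ih b hlt, zero_smul]
        · have hgt' : (a : ℕ) < b := hgt
          rw [show k - (a : ℕ) + b = ((b : ℕ) - a - 1) + (k + 1) by omega, npow_add, hk v hv, map_zero, smul_zero]
      · simp
  have hWf : Module.finrank F W = k + 1 := by rw [hW, finrank_span_eq_card hli, Fintype.card_fin]
  have hmap : ∀ j, Module.finrank F (W.map (npow T j)) = k + 1 - j := fun j => by
    rcases Nat.lt_or_ge k j with hlt | hge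
    · have hbot : W.map (npow T j) = ⊥ := by
        rw [Submodule.eq_bot_iff]
        rintro _ ⟨u, hu, rfl⟩
        rw [show j = (j - (k + 1)) + (k + 1) by omega, npow_add, hk u (hWS hu), map_zero]
      rw [hbot, finrank_bot]; omega
    · have hrg : W.map (npow T j) = Submodule.span F (Set.range fun a : Fin (k + 1 - j) => npow T ((a : ℕ) + j) v) := by
        rw [hW, Submodule.map_span, ← Set.range_comp]
        refine le_antisymm (Submodule.span_le.2 ?_) (Submodule.span_le.2 ?_)
        · rintro _ ⟨a, rfl⟩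
          simp only [Function.comp_apply]
          rw [← npow_add]
          rcases Nat.lt_or_ge (a : ℕ) (k + 1 - j) with h | h
          · exact Submodule.subset_span ⟨⟨a, h⟩, by rw [add_comm j]⟩
          · rw [show j + (a : ℕ) = (j + (a : ℕ) - (k + 1)) + (k + 1) by omega, npow_add, hk v hv, map_zero]
            exact zero_mem _
        · rintro _ ⟨a, rfl⟩
          exact Submodule.subset_span ⟨⟨a, by omega⟩, by simp only [Function.comp_apply]; rw [← npow_add, add_comm j]⟩
      rw [hrg, finrank_span_eq_card, Fintype.card_fin]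
      exact hli.comp (fun a : Fin (k + 1 - j) => (⟨(a : ℕ) + j, by omega⟩ : Fin (k + 1)))
        (fun a b h => Fin.ext (by simpa using h))
  refine ⟨W, hWS, hWi, nd_disjoint.2 ?_, hWf, hmap⟩
  rw [disjoint_iff]
  by_contra hne
  obtain ⟨x, hx, hx0'⟩ := Submodule.exists_mem_ne_zero_of_ne_bot hne
  -- the last nonzero image
  have hRi : Inv T (W ⊓ perp C W) := inv_inf hWi (hI.perp_inv hWi)
  obtain ⟨j, hj, hj1⟩ : ∃ j, npow T j x ≠ 0 ∧ npow T (j + 1) x = 0 := by
    by_contra hcon
    push Not at hcon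
    have : ∀ j, npow T j x ≠ 0 := fun j => by
      induction j with
      | zero => rw [npow_zero]; exact hx0'
      | succ j ih => exact hcon j ih
    exact this (k + 1) (hk x (hWS hx.1))
  obtain ⟨y, hy⟩ : ∃ y, y = npow T j x := ⟨_, rfl⟩
  have hyR : y ∈ W ⊓ perp C W := hy ▸ aeval_mem_of_invariant T hRi _ hx
  have hy1 : npow T 1 y = 0 := by rw [hy, ← npow_add, add_comm, hj1]
  obtain ⟨c, hc⟩ := (Submodule.mem_span_range_iff_exists_fun F).1 (hW ▸ hyR.1)
  have hcz : ∀ a : Fin (k + 1), (a : ℕ) < k → c a = 0 := by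
    intro a ha
    have h := congrArg (npow T 1) hc
    rw [hy1, map_sum, Fin.sum_univ_castSucc] at h
    simp only [map_smul, ← npow_add, Fin.val_castSucc, Fin.val_last, add_comm 1, hk v hv, smul_zero, add_zero] at h
    exact Fintype.linearIndependent_iff.1 (hli.comp (fun b : Fin k => b.succ) (Fin.succ_injective k)) (fun b => c b.castSucc)
      (by simpa only [Function.comp_apply, Fin.val_succ] using h) ⟨a, ha⟩
  have hyk : y = c (Fin.last k) • npow T k v := by
    rw [← hc, Finset.sum_eq_single (Fin.last k)]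
    · rw [Fin.val_last]
    · intro b _ hb
      rw [hcz b (Fin.val_lt_last hb), zero_smul]
    · simp
  have h0 := hyR.2 v (by simpa [npow_zero] using hmem 0)
  rw [hyk, C.form_smul_left] at h0
  rcases mul_eq_zero.1 h0 with h | h
  · exact hj (by rw [← hy, hyk, h, zero_smul])
  · exact hvv (C.form_swap_zero h)

/-- orthogonal decompositions into single blocks -/
theorem jordan_decomp (hI : Iso C T) {P : ℕ} (hP : npow T P = 0) {S : Submodule F (Fin n → F)} (hS : Inv T S)
    (hnd : Nd C S) :
    ∃ μ : Multiset ℕ, (∀ a ∈ μ, 0 < a ∧ a ≤ P) ∧ μ.sum = Module.finrank F S ∧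
      (∀ j, Module.finrank F (S.map (npow T j)) = rankFn μ j) ∧
      ∀ ν ≤ μ, ∃ W ≤ S, Inv T W ∧ Nd C W ∧ Module.finrank F W = ν.sum := by
  induction hN : Module.finrank F S using Nat.strong_induction_on generalizing S with
  | _ N ih =>
    subst hN
    by_cases hS0 : S = ⊥
    · subst hS0
      refine ⟨0, fun a ha => absurd ha (Multiset.notMem_zero a), by rw [finrank_bot]; rfl, fun j => by
        rw [Submodule.map_bot, finrank_bot]; rfl, fun ν hν => ⟨⊥, le_rfl, inv_bot T, nd_bot, ?_⟩⟩
      rw [finrank_bot, Multiset.le_zero.1 hν]; rfl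
    have hex : ∃ k, ∀ u ∈ S, npow T (k + 1) u = 0 := ⟨P, fun u _ => by
      rw [add_comm, npow_add, hP, LinearMap.zero_apply, map_zero]⟩
    obtain ⟨k, hk, hkmin⟩ : ∃ k, (∀ u ∈ S, npow T (k + 1) u = 0) ∧ ∀ k' < k, ¬ ∀ u ∈ S, npow T (k' + 1) u = 0 := by
      classical
      exact ⟨Nat.find hex, Nat.find_spec hex, fun k' hk' => Nat.find_min hex hk'⟩
    have hk' : ∃ u ∈ S, npow T k u ≠ 0 := by
      rcases k with _ | k
      · obtain ⟨u, hu, hu0⟩ := Submodule.exists_mem_ne_zero_of_ne_bot hS0
        exact ⟨u, hu, by rwa [npow_zero]⟩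
      · have := hkmin k (Nat.lt_succ_self k)
        push Not at this
        exact this
    have hkP : k + 1 ≤ P := by
      by_contra hlt
      obtain ⟨u, hu, hu0⟩ := hk'
      refine hu0 ?_
      rw [show k = (k - P) + P by omega, npow_add, hP, LinearMap.zero_apply, map_zero]
    obtain ⟨W, hWS, hW, hWnd, hWf, hWm⟩ := jordan_step hI hS hnd hk hk'
    obtain ⟨S', hS'⟩ : ∃ S', S' = S ⊓ perp C W := ⟨_, rfl⟩
    have hsup : W ⊔ S' = S := by
      rw [hS', inf_comm, ← sup_inf_assoc_of_le _ hWS, (isCompl_perp hWnd).sup_eq_top, top_inf_eq]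
    have hS'o : S' ≤ perp C W := hS' ▸ inf_le_right
    have hS'S : S' ≤ S := hS' ▸ inf_le_left
    have hfr : Module.finrank F S = (k + 1) + Module.finrank F S' := by rw [← hsup, finrank_sup_perp hWnd hS'o, hWf]
    have hS'nd : Nd C S' := by
      intro x hx hxo
      refine hnd x (hS'S hx) ?_
      rw [← hsup]
      intro u hu
      obtain ⟨w, hw, s, hs, rfl⟩ := Submodule.mem_sup.1 hu
      rw [C.form_add_right, hS'o hx w hw, hxo s hs, add_zero]
    have hS'inv : Inv T S' := hS' ▸ inv_inf hS (hI.perp_inv hW)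
    obtain ⟨μ, hμ, hsum, hrank, hsub⟩ := ih _ (by omega) hS'inv hS'nd rfl
    refine ⟨(k + 1) ::ₘ μ, fun a ha => ?_, by rw [Multiset.sum_cons, hsum, hfr], fun j => ?_, fun ν hν => ?_⟩
    · rcases Multiset.mem_cons.1 ha with rfl | h
      · exact ⟨Nat.succ_pos k, hkP⟩
      · exact hμ a h
    · rw [rankFn_cons, map_sup_finrank hW hWnd hS'o hS'inv hsup, hWm, hrank]
    · classical
      by_cases hkν : k + 1 ∈ ν
      · obtain ⟨ν', rfl⟩ := Multiset.exists_cons_of_mem hkν
        obtain ⟨W', hW'S, hW', hW'nd, hW'f⟩ := hsub ν' ((Multiset.cons_le_cons_iff _).1 hν)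
        refine ⟨W ⊔ W', sup_le hWS (hW'S.trans hS'S), inv_sup hW hW', nd_sup hWnd hW'nd (hW'S.trans hS'o), ?_⟩
        rw [finrank_sup_perp hWnd (hW'S.trans hS'o), hWf, hW'f, Multiset.sum_cons]
      · obtain ⟨W', hW'S, hW'⟩ := hsub ν ((Multiset.le_cons_of_notMem hkν).1 hν)
        exact ⟨W', hW'S.trans hS'S, hW'⟩

/-- invariant nondegenerate subspaces of an element with given blocks -/
theorem sub_partition (hI : Iso C T) {P : ℕ} (hP : npow T P = 0) {μ : Multiset ℕ} (hμ : ∀ a ∈ μ, 0 < a)
    (hrank : ∀ j, Module.finrank F (LinearMap.range (npow T j)) = rankFn μ j) {W : Submodule F (Fin n → F)}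
    (hW : Inv T W) (hWnd : Nd C W) : ∃ ν ≤ μ, ν.sum = Module.finrank F W := by
  obtain ⟨ν, hν, hsum, hr1, -⟩ := jordan_decomp hI hP hW hWnd
  obtain ⟨ν', hν', -, hr2, -⟩ := jordan_decomp hI hP (hI.perp_inv hW) (nd_perp hWnd)
  have he : μ = ν + ν' := eq_of_rankFn hμ (fun a ha => by
    rcases Multiset.mem_add.1 ha with h | h
    · exact (hν a h).1
    · exact (hν' a h).1) fun j => by
    rw [← hrank, rankFn_add, ← hr1, ← hr2, ← map_sup_finrank hW hWnd le_rfl (hI.perp_inv hW)
      (isCompl_perp hWnd).sup_eq_top j, Submodule.map_top]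
  exact ⟨ν, he ▸ Multiset.le_add_right ν ν', hsum⟩

end CfsgLib.Perm.Elusive.HermIso
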