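import Mathlib
import Cfsg.Agent.Lib.Classical.HermTori
import Cfsg.Agent.Lib.Perm.Elusive.HermIso.Unipotent

/-!
# Unipotent isometries with prescribed blocks
-/

set_option autoImplicit false
set_option linter.all false

namespace CfsgLib.Perm.Elusive.HermIso

open Matrix Polynomial Module CfsgLib.SU CfsgLib.Classical CfsgLib.Classical.HermWitt CfsgLib.Classical.HermFrames

variable {F : Type*} [Field F] [Fintype F] {q : ℕ} (C : UCtx F q)

section algebra

variable {R : Type*} [CommRing R] [Algebra F R] [Module.Finite F R]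

/-- Norm one elements of an algebra with involution as unitary matrices. -/
theorem exists_model {d : ℕ} (hd : finrank F R = d) (st : R →+* R) (hst : ∀ x, st (st x) = x)
    (hsta : ∀ c, st (algebraMap F R c) = algebraMap F R (C.bar c)) (l : R →ₗ[F] F)
    (hl : ∀ x, l (st x) = C.bar (l x)) (hnd : ∀ x, (∀ y, l (x * y) = 0) → x = 0)
    (t : R) (ht : t * st t = 1) (hN : Algebra.norm F t = 1) : ∃ A : ↥(Cfsg.SU d F q), ∀ P : F[X], aeval A.1.1 P = 0 ↔ aeval t P = 0 := by
  classical
  let B : R →ₛₗ[(C.bar : F →+* F)] R →ₗ[F] F :=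
    LinearMap.mk₂'ₛₗ (C.bar : F →+* F) (RingHom.id F) (fun u v => l (v * st u))
      (fun a b c => by rw [map_add, mul_add, map_add])
      (fun r a b => by
        show l (b * st (r • a)) = C.bar r • l (b * st a)
        rw [Algebra.smul_def r a, map_mul st, hsta, mul_left_comm, ← Algebra.smul_def, map_smul])
      (fun a b c => by rw [add_mul, map_add])
      (fun r a b => by rw [smul_mul_assoc, map_smul]; rfl)
  have hBs : B.IsSymm := ⟨fun u v => by
    show C.bar (l (v * st u)) = l (u * st v)
    rw [← hl, map_mul, hst, mul_comm]⟩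
  have hBn : B.Nondegenerate := ⟨fun u h => by
      have := hnd (st u) fun y => by rw [mul_comm]; exact h y
      rw [← hst u, this, map_zero],
    fun v h => hnd v fun y => by have := h (st y); rwa [show B (st y) v = l (v * st (st y)) from rfl, hst] at this⟩
  obtain ⟨v, hv⟩ := exists_orth (B := B) (bar_ne_id C) C.bar_bar hBs hBn d hd.ge
  let b : Basis (Fin d) F R := Basis.mk (linearIndependent_of_orth hv)
      ((linearIndependent_of_orth hv).span_eq_top_of_card_eq_finrank' (by rw [hd, Fintype.card_fin])).ge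
  have hb : ∀ i, b i = v i := fun i => Basis.mk_apply _ _ i
  have hB : ∀ x y : R, C.form (b.repr x) (b.repr y) = B y x := by
    intro x y
    conv_rhs => rw [← b.sum_repr x, ← b.sum_repr y]
    simp only [map_sum, LinearMap.sum_apply, map_smul, LinearMap.map_smulₛₗ, LinearMap.smul_apply, smul_eq_mul,
      hb, hv, mul_ite, mul_one, mul_zero, Finset.sum_ite_eq', Finset.mem_univ, if_true, UCtx.form, RingEquiv.coe_toRingHom]
  let M := Algebra.leftMulMatrix b t
  have hM : ∀ x, M *ᵥ b.repr x = b.repr (t * x) := fun x => Algebra.leftMulMatrix_mulVec_repr b t x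
  refine ⟨C.mkSU M (by rw [← Algebra.norm_eq_matrix_det]; exact hN) fun u u' => ?_, ?_⟩
  · obtain ⟨x, rfl⟩ : ∃ x, (b.repr x : Fin d → F) = u := ⟨b.equivFun.symm u, b.equivFun.apply_symm_apply u⟩
    obtain ⟨y, rfl⟩ : ∃ y, (b.repr y : Fin d → F) = u' := ⟨b.equivFun.symm u', b.equivFun.apply_symm_apply u'⟩
    rw [hM, hM, hB, hB]
    show l (t * x * st (t * y)) = l (x * st y)
    rw [map_mul st, mul_mul_mul_comm, ht, one_mul]
  · intro P
    show aeval (Algebra.leftMulMatrix b t) P = 0 ↔ _
    rw [aeval_algHom_apply, map_eq_zero_iff _ (Algebra.leftMulMatrix_injective b)]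

end algebra

variable {p : ℕ} [Fact p.Prime] [CharP F p]

include C in
omit [Fact p.Prime] [CharP F p] in
/-- Regular unipotent elements. -/
theorem exists_single {d : ℕ} (hd : 1 ≤ d) :
    ∃ A : ↥(Cfsg.SU d F q), aeval A.1.1 ((X - Polynomial.C (1 : F)) ^ d) = 0 ∧
      aeval A.1.1 ((X - Polynomial.C (1 : F)) ^ (d - 1)) ≠ 0 := by
  classical
  set P : F[X] := (X - Polynomial.C 1) ^ d with hP
  have hPm : P.Monic := (monic_X_sub_C 1).pow d
  have hPd : P.natDegree = d := by rw [hP, natDegree_pow, natDegree_X_sub_C, mul_one]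
  haveI : Module.Finite F (AdjoinRoot P) := hPm.finite_adjoinRoot
  set u := AdjoinRoot.root P with hu
  set ε := u - 1 with hε
  have hεd : ε ^ d = 0 := by
    have h := AdjoinRoot.eval₂_root P
    rw [← AdjoinRoot.algebraMap_eq, ← aeval_def] at h
    simpa [hP, hε, hu] using h
  have hεd' : ε ^ (d - 1) ≠ 0 := by
    intro h
    have h2 : AdjoinRoot.mk P ((X - Polynomial.C 1) ^ (d - 1)) = 0 := by simpa [hε, hu] using h
    rw [AdjoinRoot.mk_eq_zero] at h2
    have h3 := natDegree_le_of_dvd h2 (pow_ne_zero _ (X_sub_C_ne_zero 1))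
    rw [hPd, natDegree_pow, natDegree_X_sub_C] at h3
    omega
  obtain ⟨U, hU⟩ : IsUnit u := by
    have := IsNilpotent.isUnit_one_add (r := ε) ⟨d, hεd⟩
    rwa [hε, add_sub_cancel] at this
  set v : AdjoinRoot P := (U⁻¹ : (AdjoinRoot P)ˣ).1 with hv
  have huv : u * v = 1 := by rw [← hU, hv, Units.mul_inv]
  have hvε : v - 1 = -(v * ε) := by rw [hε, mul_sub, mul_comm v u, huv]; ring
  let st : AdjoinRoot P →+* AdjoinRoot P := AdjoinRoot.lift ((AdjoinRoot.of P).comp (C.bar : F →+* F)) v (by
    show eval₂ _ v ((X - Polynomial.C 1) ^ d) = 0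
    rw [eval₂_pow, eval₂_sub, eval₂_X, eval₂_C, map_one, hvε, neg_pow, mul_pow, hεd]
    simp)
  have hsu : st u = v := AdjoinRoot.lift_root _
  have hsof : ∀ c, st (algebraMap F _ c) = algebraMap F _ (C.bar c) := fun c => by
    rw [AdjoinRoot.algebraMap_eq]; exact AdjoinRoot.lift_of _
  have hsv : st v = u := by
    have h1 := congrArg st huv
    rw [map_mul, hsu, map_one] at h1
    calc st v = u * (v * st v) := by rw [← mul_assoc, huv, one_mul]
      _ = u := by rw [h1, mul_one]
  have hss : ∀ x, st (st x) = x := fun x => by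
    obtain ⟨g, rfl⟩ := AdjoinRoot.mk_surjective x
    induction g using Polynomial.induction_on with
    | C c => rw [AdjoinRoot.mk_C, ← AdjoinRoot.algebraMap_eq, hsof, hsof, C.bar_bar]
    | add f g hf hg => rw [map_add, map_add, map_add, hf, hg]
    | monomial k c ih =>
      rw [map_mul, map_mul, map_mul, map_pow, map_pow, map_pow, AdjoinRoot.mk_X, hsu, hsv, AdjoinRoot.mk_C,
        ← AdjoinRoot.algebraMap_eq, hsof, hsof, C.bar_bar]
  -- the socle is one dimensional
  have hsoc : ∀ x, x ≠ 0 → ∃ y, x * y = ε ^ (d - 1) := by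
    intro x hx
    obtain ⟨g, rfl⟩ := AdjoinRoot.mk_surjective x
    have hg : g ≠ 0 := fun h => hx (by rw [h, map_zero])
    obtain ⟨g', hg1, hg2⟩ := exists_eq_pow_rootMultiplicity_mul_and_not_dvd g hg (1 : F)
    generalize rootMultiplicity 1 g = j at hg1
    have hj : j < d := by
      by_contra hjd
      refine hx ((AdjoinRoot.mk_eq_zero).2 ?_)
      rw [hg1, hP]
      exact (pow_dvd_pow _ (by omega)).mul_right _
    have hcop : IsCoprime P g' :=
      (((irreducible_X_sub_C (1 : F)).coprime_iff_not_dvd).2 hg2).pow_left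
    obtain ⟨c1, c2, hc⟩ := hcop
    have h1 : AdjoinRoot.mk P c2 * AdjoinRoot.mk P g' = 1 := by
      have := congrArg (AdjoinRoot.mk P) hc
      simpa [AdjoinRoot.mk_self] using this
    refine ⟨ε ^ (d - 1 - j) * AdjoinRoot.mk P c2, ?_⟩
    have h2 : AdjoinRoot.mk P g = ε ^ j * AdjoinRoot.mk P g' := by
      rw [hg1, map_mul, map_pow, map_sub, AdjoinRoot.mk_X, AdjoinRoot.mk_C, map_one]
    calc AdjoinRoot.mk P g * (ε ^ (d - 1 - j) * AdjoinRoot.mk P c2)
        = ε ^ (j + (d - 1 - j)) * (AdjoinRoot.mk P c2 * AdjoinRoot.mk P g') := by rw [h2, pow_add]; ring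
      _ = _ := by rw [h1, mul_one, show j + (d - 1 - j) = d - 1 by omega]
  obtain ⟨l₀, hl₀⟩ := Module.Projective.exists_dual_ne_zero F hεd'
  let lb : AdjoinRoot P →ₗ[F] F :=
    { toFun := fun x => C.bar (l₀ (st x))
      map_add' := fun x y => by rw [map_add, map_add, map_add]
      map_smul' := fun c x => by
        rw [Algebra.smul_def, map_mul, hsof, ← Algebra.smul_def, map_smul, smul_eq_mul, map_mul, C.bar_bar]; rfl }
  obtain ⟨c, hc⟩ : ∃ c : F, c * l₀ (ε ^ (d - 1)) + C.bar c * lb (ε ^ (d - 1)) ≠ 0 := by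
    by_contra hcon
    push Not at hcon
    obtain ⟨y, hy⟩ := C.exists_not_fixed
    have h1 := hcon 1
    have h2 := hcon y
    rw [map_one, one_mul, one_mul] at h1
    exact hy (sub_eq_zero.1 ((mul_eq_zero.1 (show (C.bar y - y) * l₀ (ε ^ (d - 1)) = 0 by
      linear_combination (C.bar y) * h1 - h2)).resolve_right hl₀))
  let l : AdjoinRoot P →ₗ[F] F := c • l₀ + C.bar c • lb
  have hl1 : ∀ x, l x = c * l₀ x + C.bar c * C.bar (l₀ (st x)) := fun x => rfl
  have hminu : minpoly F u = P := by
    rw [hu, AdjoinRoot.minpoly_root hPm.ne_zero, hPm.leadingCoeff, inv_one, map_one, mul_one]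
  obtain ⟨A, hA⟩ := exists_model C (R := AdjoinRoot P) (d := d)
    (by rw [(AdjoinRoot.powerBasis hPm.ne_zero).finrank, AdjoinRoot.powerBasis_dim, hPd]) st hss hsof l
    (fun x => by rw [hl1, hl1, hss, map_add, map_mul, map_mul, C.bar_bar, C.bar_bar, add_comm])
    (fun x hx => by
      by_contra hx0
      obtain ⟨y, hy⟩ := hsoc x hx0
      exact hc (by have := hx y; rw [hy, hl1] at this; exact this))
    u (by rw [hsu, huv])
    (by
      have h := Algebra.PowerBasis.norm_gen_eq_coeff_zero_minpoly (AdjoinRoot.powerBasis hPm.ne_zero)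
      rw [AdjoinRoot.powerBasis_gen, AdjoinRoot.powerBasis_dim, hminu, hPd, coeff_zero_eq_eval_zero, hP,
        eval_pow, eval_sub, eval_X, eval_C, zero_sub, ← mul_pow, neg_one_mul, neg_neg, one_pow] at h
      exact h)
  refine ⟨A, (hA _).2 ?_, fun h => hεd' ?_⟩
  · rw [map_pow, map_sub, aeval_X, aeval_C, map_one]
    exact hεd
  · have h' := (hA _).1 h
    rwa [map_pow, map_sub, aeval_X, aeval_C, map_one] at h'


include C in
/-- an element with prescribed blocks -/
theorem exists_unipotent (μ : Multiset ℕ) : (∀ a ∈ μ, 0 < a) → ∀ n, n = μ.sum →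
    ∃ M : Matrix (Fin n) (Fin n) F, Iso C (Matrix.toLin' M) ∧ M.det = 1 ∧
      (∀ P, (∀ a ∈ μ, a ≤ P) → npow (Matrix.toLin' M) P = 0) ∧
      ∀ j, Module.finrank F (LinearMap.range (npow (Matrix.toLin' M) j)) = rankFn μ j := by
  induction μ using Multiset.induction_on with
  | empty =>
    intro _ n hn
    rw [Multiset.sum_zero] at hn
    subst hn
    refine ⟨1, fun u v => congrArg₂ C.form (Subsingleton.elim _ _) (Subsingleton.elim _ _), by simp,
      fun P _ => LinearMap.ext fun u => Subsingleton.elim _ _, fun j => ?_⟩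
    have := (LinearMap.range (npow (Matrix.toLin' (1 : Matrix (Fin 0) (Fin 0) F)) j)).finrank_le
    rw [Module.finrank_fin_fun] at this
    show _ = 0
    omega
  | cons a μ ih =>
    intro hpos n hn
    have hn' : n = μ.sum + a := by rw [hn, Multiset.sum_cons, add_comm]
    subst hn'
    obtain ⟨M, h1, h2, h3, h4⟩ := ih (fun x hx => hpos x (Multiset.mem_cons_of_mem hx)) μ.sum rfl
    have ha : 1 ≤ a := hpos a (Multiset.mem_cons_self a μ)
    obtain ⟨A, hAk, hAk'⟩ := exists_single C ha
    have hAI : Iso C (Matrix.toLin' A.1.1) := fun u v => by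
      rw [Matrix.toLin'_apply, Matrix.toLin'_apply]; exact C.form_su A u v
    have htr : ∀ P : F[X], aeval (Matrix.toLin' A.1.1) P = Matrix.toLinAlgEquiv' (aeval A.1.1 P) := fun P =>
      (aeval_algHom_apply (Matrix.toLinAlgEquiv' (R := F) (n := Fin a)) A.1.1 P)
    have hA0 : npow (Matrix.toLin' A.1.1) a = 0 := by rw [npow, htr, hAk, map_zero]
    have hA1 : npow (Matrix.toLin' A.1.1) (a - 1) ≠ 0 := fun h => hAk' (by
      rw [npow, htr] at h; exact (map_eq_zero_iff _ (AlgEquiv.injective _)).1 h)
    obtain ⟨ν, hν, hνs, hνr, -⟩ := jordan_decomp hAI hA0 (inv_top _) (nd_top (C := C))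
    rw [finrank_top, Module.finrank_fin_fun] at hνs
    have hνa : ν = {a} := by
      have hex : ∃ x ∈ ν, a ≤ x := by
        by_contra hcon
        push Not at hcon
        have h0 : rankFn ν (a - 1) = 0 := by
          rw [rankFn, Multiset.sum_eq_zero]
          intro y hy
          obtain ⟨x, hx, rfl⟩ := Multiset.mem_map.1 hy
          have := hcon x hx
          omega
        rw [← hνr, Submodule.map_top, Submodule.finrank_eq_zero, LinearMap.range_eq_bot] at h0
        exact hA1 h0
      obtain ⟨x, hx, hxa⟩ := hex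
      obtain ⟨ν', rfl⟩ := Multiset.exists_cons_of_mem hx
      rw [Multiset.sum_cons] at hνs
      have hν'0 : ν' = 0 := Multiset.eq_zero_of_forall_notMem fun y hy => by
        have h5 := Multiset.le_sum_of_mem hy
        have := (hν y (Multiset.mem_cons_of_mem hy)).1
        omega
      subst hν'0
      rw [Multiset.sum_zero, add_zero] at hνs
      rw [hνs]; rfl
    subst hνa
    refine ⟨HermStab.blockMat M A.1.1, block_iso h1 hAI, by rw [HermTori.det_blockMat, h2, A.1.2, mul_one],
      fun P hP => block_kill (h3 P fun x hx => hP x (Multiset.mem_cons_of_mem hx)) ?_, fun j => ?_⟩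
    · rw [show P = (P - a) + a by have := hP a (Multiset.mem_cons_self a μ); omega]
      exact LinearMap.ext fun u => by
        rw [show aeval (Matrix.toLin' A.1.1) ((X - Polynomial.C (1 : F)) ^ (P - a + a)) = npow (Matrix.toLin' A.1.1) (P - a + a)
          from rfl, npow_add, hA0, LinearMap.zero_apply, map_zero]
    · have e1 := (npow (Matrix.toLin' M) j).finrank_range_add_finrank_ker
      have e2 := (npow (Matrix.toLin' A.1.1) j).finrank_range_add_finrank_ker
      have e3 := (npow (Matrix.toLin' (HermStab.blockMat M A.1.1)) j).finrank_range_add_finrank_ker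
      have e4 := hνr j
      rw [Submodule.map_top] at e4
      rw [h4 j] at e1
      rw [e4] at e2
      rw [show rankFn {a} j = a - j by simp [rankFn]] at e2
      have e5 : Module.finrank F (LinearMap.ker (npow (Matrix.toLin' (HermStab.blockMat M A.1.1)) j)) =
          Module.finrank F (LinearMap.ker (npow (Matrix.toLin' M) j)) +
            Module.finrank F (LinearMap.ker (npow (Matrix.toLin' A.1.1) j)) := finrank_ker_block _
      rw [Module.finrank_fin_fun] at e1 e2 e3
      rw [rankFn_cons]
      omega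

end CfsgLib.Perm.Elusive.HermIso
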