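import Mathlib
import Cfsg.Agent.Lib.Perm.Elusive.HermIso.Elements
import Cfsg.Agent.Lib.Perm.Elusive.HermIso.Count

/-!
# Preparations for the classification of elusive prime orders
-/

set_option autoImplicit false
set_option linter.all false

namespace CfsgLib.Perm.Elusive.HermIso

open Matrix Polynomial CfsgLib.SU CfsgLib.Classical

variable {F : Type*} [Field F] [Fintype F] {q : ℕ} {C : UCtx F q} {n : ℕ} {T : Module.End F (Fin n → F)}

theorem hermForm_eq (C : UCtx F q) (u v : Fin n → F) : Cfsg.hermForm n F q u v = C.form u v := by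
  rw [← C.hermForm_eq]
  rfl

theorem iso_count_eq (C : UCtx F q) (n m : ℕ) :
    Nat.card {W : Submodule F (Fin n → F) // Module.finrank F W = m ∧ ∀ u ∈ W, ∀ v ∈ W, Cfsg.hermForm n F q u v = 0} =
      Nat.card {W : Submodule F (Fin n → F) // Module.finrank F W = m ∧ ∀ u ∈ W, ∀ v ∈ W, C.form u v = 0} :=
  Nat.card_congr (Equiv.subtypeEquivRight fun W => by simp only [hermForm_eq C])

theorem map_le_iff_inv {W : Submodule F (Fin n → F)} : W.map T ≤ W ↔ Inv T W :=
  ⟨fun h u hu => h ⟨u, hu, rfl⟩, fun h => by rintro _ ⟨u, hu, rfl⟩; exact h u hu⟩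

/-- the data of an element -/
theorem elem_setup (C : UCtx F q) (hn : 0 < n) {x : Matrix.SpecialLinearGroup (Fin n) F} (hx : x ∈ Cfsg.SU n F q) {r : ℕ}
    {z : F} (hz : ((x ^ r : Matrix.SpecialLinearGroup (Fin n) F) : Matrix (Fin n) (Fin n) F) = z • (1 : Matrix (Fin n) (Fin n) F)) :
    Iso C (Matrix.toLin' (x : Matrix (Fin n) (Fin n) F)) ∧
      (Matrix.toLin' (x : Matrix (Fin n) (Fin n) F) : Module.End F (Fin n → F)) ^ r = z • LinearMap.id ∧
      z ^ (q + 1) = 1 := by
  have hI : Iso C (Matrix.toLin' (x : Matrix (Fin n) (Fin n) F)) := fun u v => by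
    rw [Matrix.toLin'_apply, Matrix.toLin'_apply]; exact C.form_su ⟨x, hx⟩ u v
  have hT : (Matrix.toLin' (x : Matrix (Fin n) (Fin n) F) : Module.End F (Fin n → F)) ^ r = z • LinearMap.id := by
    rw [← Matrix.toLin'_pow, ← Matrix.SpecialLinearGroup.coe_pow, hz, map_smul, Matrix.toLin'_one]
  refine ⟨hI, hT, ?_⟩
  obtain ⟨u, hu⟩ : ∃ u : Fin n → F, u ≠ 0 := ⟨fun _ => 1, fun h => one_ne_zero (congrFun h ⟨0, hn⟩)⟩
  obtain ⟨v, -, hv⟩ := (nd_iff (C := C) (⊤ : Submodule F (Fin n → F))).1 nd_top u Submodule.mem_top hu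
  have h := (hI.pow r) u v
  rw [hT, LinearMap.smul_apply, LinearMap.smul_apply, LinearMap.id_apply, LinearMap.id_apply, C.form_smul_left,
    C.form_smul_right, ← mul_assoc] at h
  rw [pow_succ', ← C.bar_eq]
  exact (mul_eq_right₀ hv).1 h

/-- dividing by a root -/
theorem rescale {r : ℕ} {z w : F} (hI : Iso C T) (hT : T ^ r = z • LinearMap.id) (hw : w ^ r = z) (hN : w * C.bar w = 1) :
    Iso C (w⁻¹ • T) ∧ (w⁻¹ • T) ^ r = 1 ∧ ∀ W, Inv (w⁻¹ • T) W → Inv T W := by
  have hw0 : w ≠ 0 := fun h => by rw [h, zero_mul] at hN; exact zero_ne_one hN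
  refine ⟨fun u v => ?_, ?_, fun W hW u hu => ?_⟩
  · rw [LinearMap.smul_apply, LinearMap.smul_apply, C.form_smul_left, C.form_smul_right, hI, ← mul_assoc, map_inv₀,
      ← mul_inv, hN, inv_one, one_mul]
  · rw [_root_.smul_pow, hT, inv_pow, hw, smul_smul, inv_mul_cancel₀ (hw ▸ pow_ne_zero r hw0), one_smul]
    rfl
  · have h := W.smul_mem w (hW u hu)
    rwa [LinearMap.smul_apply, smul_smul, mul_inv_cancel₀ hw0, one_smul] at h

/-- roots of norm one -/
theorem exists_root (C : UCtx F q) (hF : Fintype.card F = q ^ 2) {r : ℕ} [Fact r.Prime] (hr2 : r ≠ 2) {z : F}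
    (hz : z ^ (q + 1) = 1) (h : ¬ r ∣ q + 1 ∨ ∃ l : F, l ^ r = z) : ∃ w : F, w ^ r = z ∧ w * C.bar w = 1 := by
  have hr : r.Prime := Fact.out
  by_cases hrq : r ∣ q + 1
  · obtain ⟨l, hl⟩ := h.resolve_left (not_not.2 hrq)
    refine ⟨l, hl, ?_⟩
    have hl0 : l ≠ 0 := fun e => by
      rw [e, zero_pow hr.ne_zero] at hl
      rw [← hl, zero_pow (Nat.succ_ne_zero q)] at hz
      exact zero_ne_one hz
    rw [C.bar_eq, ← pow_succ']
    have h1 : (l ^ (q + 1)) ^ r = 1 := by rw [← pow_mul, mul_comm, pow_mul, hl, hz]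
    have h2 : (l ^ (q + 1)) ^ (q - 1) = 1 := by
      rw [← pow_mul, ← Nat.sq_sub_sq, one_pow, ← hF]
      exact FiniteField.pow_card_sub_one_eq_one l hl0
    have hco : r.Coprime (q - 1) := (hr.coprime_iff_not_dvd).2 fun hd => hr2 ((Nat.prime_dvd_prime_iff_eq hr Nat.prime_two).1
      (by
        have := Nat.dvd_sub hrq hd
        rwa [show q + 1 - (q - 1) = 2 by have := two_le_q hF; omega] at this))
    have := pow_gcd_eq_one.2 ⟨h1, h2⟩
    rwa [hco.gcd_eq_one, pow_one] at this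
  · obtain ⟨m, hm⟩ := exists_pow_eq_self_of_coprime (x := z) (n := r)
      (Nat.Coprime.coprime_dvd_right (orderOf_dvd_of_pow_eq_one hz) ((hr.coprime_iff_not_dvd).2 hrq))
    refine ⟨z ^ m, by rw [← pow_mul, mul_comm, pow_mul, hm], ?_⟩
    rw [C.bar_eq, ← pow_succ', ← pow_mul, mul_comm, pow_mul, hz, one_pow]

/-- powers in the multiplicative group -/
theorem exists_root_of_pow_eq_one {r : ℕ} (hr : r ∣ Fintype.card F - 1) {z : F} (hz0 : z ≠ 0)
    (hz : z ^ ((Fintype.card F - 1) / r) = 1) : ∃ l : F, l ^ r = z := by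
  classical
  obtain ⟨u, hu⟩ := IsCyclic.exists_generator (α := Fˣ)
  obtain ⟨a, ha⟩ := Subgroup.mem_zpowers_iff.1 (hu (Units.mk0 z hz0))
  have hord : orderOf u = Fintype.card F - 1 := by
    rw [orderOf_eq_card_of_forall_mem_zpowers hu, Nat.card_units, Nat.card_eq_fintype_card]
  obtain ⟨e, he⟩ := hr
  have hr0 : 0 < r := Nat.pos_of_ne_zero fun h => by
    have := Fintype.one_lt_card (α := F)
    rw [h, zero_mul] at he; omega
  rw [he, Nat.mul_div_cancel_left _ hr0] at hz
  have h1 : u ^ (a * e) = 1 := by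
    rw [_root_.zpow_mul, ha, _root_.zpow_natCast]
    exact Units.ext hz
  rw [← orderOf_dvd_iff_zpow_eq_one, hord, he, Nat.cast_mul] at h1
  have he0 : (e : ℤ) ≠ 0 := fun h => by
    have := Fintype.one_lt_card (α := F)
    rw [Int.natCast_eq_zero] at h
    rw [h, mul_zero] at he; omega
  obtain ⟨t, rfl⟩ := (mul_dvd_mul_iff_right he0).1 h1
  refine ⟨((u ^ t : Fˣ) : F), ?_⟩
  rw [← Units.val_pow_eq_pow_val, ← _root_.zpow_natCast, ← _root_.zpow_mul, mul_comm, ha]
  rfl

/-- isotropic subspaces of every dimension -/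
theorem exists_sing (C : UCtx F q) (hF : Fintype.card F = q ^ 2) {m : ℕ} (h : 2 * m ≤ n) :
    ∃ W : Submodule F (Fin n → F), Sing C W ∧ Module.finrank F W = m := by
  obtain ⟨W, -, -, h1, h2⟩ := scalar_sing (C := C) hF (T := (1 : Module.End F (Fin n → F))) (S := ⊤) (c := 1) (j := m)
    (fun u _ => by simp) nd_top (by rwa [finrank_top, Module.finrank_fin_fun])
  exact ⟨W, h1, h2⟩

/-- nondegenerate subspaces of every dimension -/
theorem exists_nd (C : UCtx F q) (hF : Fintype.card F = q ^ 2) {m : ℕ} (h : m ≤ n) :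
    ∃ W : Submodule F (Fin n → F), Nd C W ∧ Module.finrank F W = m := by
  obtain ⟨W, -, -, h1, h2⟩ := scalar_nd (C := C) hF (T := (1 : Module.End F (Fin n → F))) (S := ⊤) (c := 1) (j := m)
    (fun u _ => by simp) nd_top (by rwa [finrank_top, Module.finrank_fin_fun])
  exact ⟨W, h1, h2⟩

theorem inv_of_scalar {z : F} {M : Matrix (Fin n) (Fin n) F} (h : M = z • (1 : Matrix (Fin n) (Fin n) F))
    (W : Submodule F (Fin n → F)) : Inv (Matrix.toLin' M) W := fun u hu => by
  rw [h, map_smul, Matrix.toLin'_one]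
  exact W.smul_mem z hu

/-- elements whose square is a scalar -/
theorem involution (hF : Fintype.card F = q ^ 2) (h2 : (2 : F) ≠ 0) (hI : Iso C T) {z : F} (hT : T ^ 2 = z • LinearMap.id)
    (hz : z ^ (q + 1) = 1) :
    ∃ (w : F) (A B : Submodule F (Fin n → F)), w ^ 2 = z ∧ w ≠ 0 ∧ Inv T A ∧ Inv T B ∧ (∀ u ∈ A, T u = w • u) ∧ (∀ u ∈ B, T u = (-w) • u) ∧
      (∀ W, Inv T W → W = (W ⊓ A) ⊔ (W ⊓ B) ∧ Module.finrank F W =
        Module.finrank F (W ⊓ A : Submodule F (Fin n → F)) + Module.finrank F (W ⊓ B : Submodule F (Fin n → F))) ∧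
      Module.finrank F A + Module.finrank F B = n ∧
      LinearMap.det T = w ^ Module.finrank F A * (-w) ^ Module.finrank F B ∧
      ((w * C.bar w = 1 ∧ (∀ u ∈ A, ∀ v ∈ B, C.form u v = 0) ∧ Nd C A ∧ Nd C B) ∨
        (w * C.bar w = -1 ∧ Sing C A ∧ Sing C B)) := by
  have hz0 : z ≠ 0 := fun h => by rw [h, zero_pow (Nat.succ_ne_zero q)] at hz; exact zero_ne_one hz
  have hring : ringChar F ≠ 2 := fun h => h2 (by
    have h' : ((ringChar F : ℕ) : F) = 0 := ringChar.Nat.cast_ringChar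
    rw [h] at h'; exact_mod_cast h')
  have hoddF := FiniteField.odd_card_of_char_ne_two hring
  rw [hF] at hoddF
  have hq2 : Odd q := by
    rcases Nat.even_or_odd q with he | ho
    · have : Even (q ^ 2) := Nat.even_pow.2 ⟨he, two_ne_zero⟩
      rw [Nat.even_iff] at this; omega
    · exact ho
  obtain ⟨s, hs⟩ := hq2
  obtain ⟨w, hw⟩ := exists_root_of_pow_eq_one (F := F) (r := 2) (by
      rw [hF]; exact (Nat.even_iff.2 (by omega : (q ^ 2 - 1) % 2 = 0)).two_dvd) hz0 (by
    rw [hF, show (q ^ 2 - 1) / 2 = (q + 1) * s by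
      rw [show q ^ 2 - 1 = (q + 1) * s * 2 by rw [hs]; ring_nf; omega, Nat.mul_div_cancel _ two_pos],
      pow_mul, hz, one_pow])
  have hw0 : w ≠ 0 := fun h => hz0 (by rw [← hw, h, zero_pow two_ne_zero])
  obtain ⟨A, hA⟩ : ∃ A, A = LinearMap.ker (aeval T (X - Polynomial.C w)) := ⟨_, rfl⟩
  obtain ⟨B, hB⟩ : ∃ B, B = LinearMap.ker (aeval T (X - Polynomial.C (-w))) := ⟨_, rfl⟩
  have hfixA : ∀ u ∈ A, T u = w • u := fun u hu => by
    rw [hA, LinearMap.mem_ker, map_sub, aeval_X, aeval_C, LinearMap.sub_apply, sub_eq_zero] at hu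
    rw [hu, Module.algebraMap_end_apply]
  have hfixB : ∀ u ∈ B, T u = (-w) • u := fun u hu => by
    rw [hB, LinearMap.mem_ker, map_sub, aeval_X, aeval_C, LinearMap.sub_apply, sub_eq_zero] at hu
    rw [hu, Module.algebraMap_end_apply]
  have hco : IsCoprime (X - Polynomial.C w) (X - Polynomial.C (-w)) :=
    isCoprime_X_sub_C_of_isUnit_sub (IsUnit.mk0 _ (by
      rw [sub_neg_eq_add, ← two_mul]; exact mul_ne_zero h2 hw0))
  have hPQ : aeval T ((X - Polynomial.C w) * (X - Polynomial.C (-w))) = 0 := by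
    rw [show (X - Polynomial.C w) * (X - Polynomial.C (-w)) = X ^ 2 - Polynomial.C (w ^ 2) by
      rw [map_neg, map_pow]; ring, hw, map_sub, map_pow, aeval_X, aeval_C, hT, sub_eq_zero]
    exact LinearMap.ext fun u => by simp [Module.algebraMap_end_apply]
  have hsplit : ∀ W, Inv T W → W = (W ⊓ A) ⊔ (W ⊓ B) ∧ Module.finrank F W =
      Module.finrank F (W ⊓ A : Submodule F (Fin n → F)) + Module.finrank F (W ⊓ B : Submodule F (Fin n → F)) :=
    fun W hW => by rw [hA, hB]; exact split hco hPQ hW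
  have hn := (hsplit ⊤ (inv_top T)).2
  rw [finrank_top, Module.finrank_fin_fun, top_inf_eq, top_inf_eq] at hn
  have htop := (hsplit ⊤ (inv_top T)).1
  rw [top_inf_eq, top_inf_eq] at htop
  have hAi : Inv T A := hA ▸ ker_inv T _
  have hBi : Inv T B := hB ▸ ker_inv T _
  have hdet : LinearMap.det T = w ^ Module.finrank F A * (-w) ^ Module.finrank F B := by
    have hle : A ≤ A.comap T := hAi
    rw [LinearMap.det_eq_det_mul_det A T hle]
    have h1 : T.restrict hle = w • LinearMap.id := LinearMap.ext fun u => Subtype.ext (hfixA u u.2)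
    have h3 : A.mapQ A T hle = (-w) • LinearMap.id := by
      refine Submodule.linearMap_qext _ (LinearMap.ext fun u => ?_)
      simp only [LinearMap.comp_apply, Submodule.mkQ_apply, Submodule.mapQ_apply, LinearMap.smul_apply,
        LinearMap.id_apply]
      rw [← Submodule.Quotient.mk_smul, Submodule.Quotient.eq]
      obtain ⟨a, ha, b, hb, rfl⟩ := Submodule.mem_sup.1 (htop ▸ Submodule.mem_top (x := u))
      rw [map_add, hfixA a ha, hfixB b hb, smul_add, add_sub_add_right_eq_sub, ← sub_smul]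
      exact A.smul_mem _ ha
    rw [h1, h3, LinearMap.det_smul, LinearMap.det_smul, LinearMap.det_id, LinearMap.det_id, mul_one, mul_one]
    congr 2
    have := A.finrank_quotient_add_finrank
    rw [Module.finrank_fin_fun] at this
    omega
  refine ⟨w, A, B, hw, hw0, hAi, hBi, hfixA, hfixB, hsplit, hn.symm, hdet, ?_⟩
  have hN2 : (w * C.bar w) ^ 2 = 1 := by
    rw [mul_pow, ← map_pow, hw, C.bar_eq, ← pow_succ', hz]
  have key : ∀ (a b : F) (u v : Fin n → F), T u = a • u → T v = b • v → a * C.bar b ≠ 1 → C.form u v = 0 := by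
    intro a b u v hu hv hne
    have h := hI u v
    rw [hu, hv, C.form_smul_left, C.form_smul_right, ← mul_assoc] at h
    by_contra h0
    exact hne ((mul_eq_right₀ h0).1 h)
  have h11 : (-1 : F) ≠ 1 := fun h => h2 (by linear_combination -h)
  rcases sq_eq_one_iff.1 hN2 with hN | hN
  · left
    have horth : ∀ u ∈ A, ∀ v ∈ B, C.form u v = 0 := fun u hu v hv => key w (-w) u v (hfixA u hu) (hfixB v hv) (by
      rw [map_neg, mul_neg, hN]; exact h11)
    refine ⟨hN, horth, fun u hu huo => nd_top (C := C) u Submodule.mem_top fun v _ => ?_,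
      fun u hu huo => nd_top (C := C) u Submodule.mem_top fun v _ => ?_⟩
    · obtain ⟨a, ha, b, hb, rfl⟩ := Submodule.mem_sup.1 (htop ▸ Submodule.mem_top (x := v))
      rw [C.form_add_right, huo a ha, horth u hu b hb, add_zero]
    · obtain ⟨a, ha, b, hb, rfl⟩ := Submodule.mem_sup.1 (htop ▸ Submodule.mem_top (x := v))
      rw [C.form_add_right, huo b hb, C.form_swap_zero (horth a ha u hu), zero_add]
  · right
    refine ⟨hN, fun u hu v hv => key w w u v (hfixA u hu) (hfixA v hv) (by rw [hN]; exact h11),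
      fun u hu v hv => key (-w) (-w) u v (hfixB u hu) (hfixB v hv) (by rw [map_neg, neg_mul_neg, hN]; exact h11)⟩

end CfsgLib.Perm.Elusive.HermIso
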